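import Groth.Agent.Lib.PrinParts.Affine
import Groth.Agent.Lib.DescAlg.FPPush
import Groth.Agent.Lib.CohBasics.Affine
import Groth.Agent.Lib.Modules.SupportOps
import Groth.Agent.H47.FlatLimit

/-!
# Finiteness of sheaves of principal parts
-/

universe u

open CategoryTheory CategoryTheory.Limits AlgebraicGeometry TopologicalSpace Opposite
open scoped TensorProduct

set_option linter.style.haveILetI false

namespace Groth.Agent.Lib.PrinParts

open PrinPart

variable {X S : Scheme.{u}} (f : X ⟶ S) (n : ℕ)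

theorem isFinite_pr1 [LocallyOfFiniteType f] : IsFinite (pr1 f n) := by
  haveI : LocallyOfFiniteType (pr1 f n) := by
    unfold pr1 nbhdι infNbhdι; infer_instance
  haveI := isAffineHom_pr1 f n
  haveI : AlgebraicGeometry.Surjective (toNbhd f n) := ⟨fun z => ⟨_, toNbhd_pr1_apply f n z⟩⟩
  haveI : UniversallyClosed (toNbhd f n ≫ pr1 f n) := by rw [toNbhd_pr1]; infer_instance
  haveI : UniversallyClosed (pr1 f n) := UniversallyClosed.of_comp_surjective (toNbhd f n) (pr1 f n)
  exact (IsFinite.iff_isIntegralHom_and_locallyOfFiniteType (pr1 f n)).mpr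
    ⟨(IsIntegralHom.iff_universallyClosed_and_isAffineHom).mpr ⟨inferInstance, inferInstance⟩,
      inferInstance⟩

theorem locallyOfFinitePresentation_pr1 [LocallyOfFinitePresentation f] :
    LocallyOfFinitePresentation (pr1 f n) := by
  rw [HasRingHomProperty.iff_exists_appLE (P := @LocallyOfFinitePresentation)
    (RingHom.finitePresentation_stableUnderComposition.stableUnderCompositionWithLocalizationAway
      RingHom.finitePresentation_holdsForLocalizationAway).1]
  intro z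
  haveI := isAffineHom_pr1 f n
  obtain ⟨V, U, hV, hU, hxU, -, e⟩ := exists_chart_le f (pr1 f n z) (W := ⊤) trivial
  refine ⟨⟨U, hU⟩, ⟨pr1 f n ⁻¹ᵁ U, hU.preimage _⟩, hxU, le_rfl, ?_⟩
  show ((pr1 f n).appLE U (pr1 f n ⁻¹ᵁ U) le_rfl).hom.FinitePresentation
  rw [Scheme.Hom.appLE_eq_app]
  letI := (f.appLE V U e).hom.toAlgebra
  haveI : Algebra.FinitePresentation Γ(S, V) Γ(X, U) := f.finitePresentation_appLE hV hU e
  obtain ⟨ψ, hs, hk, h1, -⟩ := exists_chartHom f hU hV e n
  have hleft : (Algebra.TensorProduct.includeLeftRingHom :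
      Γ(X, U) →+* Γ(X, U) ⊗[Γ(S, V)] Γ(X, U)).FinitePresentation :=
    RingHom.finitePresentation_algebraMap.mpr
      (inferInstance : Algebra.FinitePresentation Γ(X, U) (Γ(X, U) ⊗[Γ(S, V)] Γ(X, U)))
  have e1 : ((pr1 f n).app U).hom = ψ.comp Algebra.TensorProduct.includeLeftRingHom :=
    RingHom.ext fun a => (h1 a).symm
  rw [e1]
  refine hleft.comp_surjective hs ?_
  rw [hk]
  exact (KaehlerDifferential.ideal_fg Γ(S, V) Γ(X, U)).pow

theorem finite_sections_push {Z Y : Scheme.{u}} (q : Z ⟶ Y) [IsFinite q] (M : Z.Modules)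
    [M.IsQuasicoherent] [SheafOfModules.IsFiniteType (R := Z.ringCatSheaf) M] {U : Y.Opens}
    (hU : IsAffineOpen U) :
    Module.Finite Γ(Y, U) Γ((Scheme.Modules.pushforward q).obj M, U) := by
  letI : Algebra Γ(Y, U) Γ(Z, q ⁻¹ᵁ U) := (q.app U).hom.toAlgebra
  letI : Module Γ(Z, q ⁻¹ᵁ U) Γ((Scheme.Modules.pushforward q).obj M, U) :=
    inferInstanceAs (Module Γ(Z, q ⁻¹ᵁ U) Γ(M, q ⁻¹ᵁ U))
  haveI : IsScalarTower Γ(Y, U) Γ(Z, q ⁻¹ᵁ U) Γ((Scheme.Modules.pushforward q).obj M, U) :=
    IsScalarTower.of_algebraMap_smul fun _ _ => rfl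
  haveI : Module.Finite Γ(Y, U) Γ(Z, q ⁻¹ᵁ U) := q.finite_app U hU
  haveI : Module.Finite Γ(Z, q ⁻¹ᵁ U) Γ((Scheme.Modules.pushforward q).obj M, U) :=
    CohBasics.Affine.finite_sections (M := M) (hU.preimage q)
  exact Module.Finite.trans Γ(Z, q ⁻¹ᵁ U) _

theorem isFP_PMod [LocallyOfFinitePresentation f] (F : X.Modules) (hF : CohB1.IsFP F) :
    CohB1.IsFP (PMod f n F) := by
  haveI : SheafOfModules.IsFinitePresentation (R := X.ringCatSheaf) F := hF
  haveI : F.IsQuasicoherent := by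
    obtain ⟨σ, -⟩ := SheafOfModules.IsFinitePresentation.exists_quasicoherentData
      (show SheafOfModules X.ringCatSheaf from F)
    exact SheafOfModules.IsQuasicoherent.mk (C := X.Opens) (R := X.ringCatSheaf) (M := F) ⟨σ⟩
  haveI := isFinite_pr1 f n
  haveI := locallyOfFinitePresentation_pr1 f n
  haveI := QCoh.Pullback.isQCoh_pullback (pr2 f n) F
  exact (DescAlg.FPPush.isFP_pushforward_iff (pr1 f n) _).mp
    (H47.FlatLimit.isFP_pullback (pr2 f n) F hF)

theorem isCoh_PMod [LocallyOfFiniteType f] (F : X.Modules) (hF : Coh.IsCoh F) :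
    Coh.IsCoh (PMod f n F) := by
  haveI : F.IsQuasicoherent := hF.1
  haveI := hF.2
  have hq := isQCoh_PMod f n F hF.1
  haveI : (PMod f n F).IsQuasicoherent := hq
  refine ⟨hq, CohBasics.Affine.isFiniteType_of_finite_sections fun x => ?_⟩
  obtain ⟨U, hU, hxU, -⟩ := exists_isAffineOpen_mem_and_subset (show x ∈ (⊤ : X.Opens) from trivial)
  haveI := isFinite_pr1 f n
  haveI := QCoh.Pullback.isQCoh_pullback (pr2 f n) F
  haveI : SheafOfModules.IsFiniteType (R := (nbhd f n).ringCatSheaf)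
      ((Scheme.Modules.pullback (pr2 f n)).obj F) := Modules.SupportOps.isFT_pullback (pr2 f n) F
  exact ⟨U, hU, hxU, finite_sections_push (pr1 f n) _ hU⟩

end Groth.Agent.Lib.PrinParts
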