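import Groth.Agent.Lib.PrinParts.DiffOp
import Groth.Agent.Lib.DiffOp.Etale
import Groth.Agent.Lib.QCoh.Stalk
import Mathlib.RingTheory.Localization.BaseChange
import Groth.Prelude.Def_Coh

/-!
# Differential operators on an affine scheme from their global sections
-/

universe u

open CategoryTheory CategoryTheory.Limits AlgebraicGeometry TopologicalSpace Opposite
open scoped TensorProduct

set_option linter.style.haveILetI false

namespace Groth.Agent.Lib.PrinParts

open Groth.Agent.Lib.Modules Groth.Agent.Lib.DiffOp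

/-- Extension of an operator along a localization. -/
theorem exists_ext_localization {R S S' M M' N : Type u} [CommRing R] [CommRing S] [CommRing S']
    [Algebra R S] [Algebra R S'] [Algebra S S'] [IsScalarTower R S S']
    (W : Submonoid S) [IsLocalization W S']
    [AddCommGroup M] [Module S M] [Module R M] [IsScalarTower R S M]
    [AddCommGroup M'] [Module S' M'] [Module R M'] [IsScalarTower R S' M']
    [Module S M'] [IsScalarTower S S' M']
    [AddCommGroup N] [Module R N] [Module S' N] [IsScalarTower R S' N]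
    [Module S N] [IsScalarTower S S' N] [IsScalarTower R S N]
    (loc : M →ₗ[S] M') [IsLocalizedModule W loc] {k : ℕ} {D : M →ₗ[R] N}
    (hD : Diff16.IsDiffOpLE R S M N k D) :
    ∃ E : M' →ₗ[R] N, Diff16.IsDiffOpLE R S' M' N k E ∧ ∀ m, E (loc m) = D m := by
  haveI : Algebra.FormallyEtale S S' := Algebra.FormallyEtale.of_isLocalization W
  obtain ⟨E₀, hE₀, hE₀m⟩ := Etale.exists_extension (S' := S') hD
  let e := (IsLocalizedModule.isBaseChange W S' loc).equiv
  refine ⟨E₀ ∘ₗ e.symm.toLinearMap.restrictScalars R, Basic.precomp _ hE₀, fun m => ?_⟩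
  show E₀ (e.symm (loc m)) = D m
  rw [show e.symm (loc m) = 1 ⊗ₜ m from
    e.symm_apply_eq.mpr (by rw [IsBaseChange.equiv_tmul, one_smul])]
  exact hE₀m m

/-- Uniqueness of the extension along a localization. -/
theorem ext_localization {R S S' M M' N : Type u} [CommRing R] [CommRing S] [CommRing S']
    [Algebra R S] [Algebra R S'] [Algebra S S'] [IsScalarTower R S S']
    (W : Submonoid S) [IsLocalization W S']
    [AddCommGroup M] [Module S M] [Module R M] [IsScalarTower R S M]
    [AddCommGroup M'] [Module S' M'] [Module R M'] [IsScalarTower R S' M']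
    [Module S M'] [IsScalarTower S S' M']
    [AddCommGroup N] [Module R N] [Module S' N] [IsScalarTower R S' N]
    [Module S N] [IsScalarTower S S' N] [IsScalarTower R S N]
    (loc : M →ₗ[S] M') [IsLocalizedModule W loc] {k : ℕ} {E E' : M' →ₗ[R] N}
    (hE : Diff16.IsDiffOpLE R S' M' N k E) (hE' : Diff16.IsDiffOpLE R S' M' N k E')
    (h : ∀ m, E (loc m) = E' (loc m)) : E = E' := by
  haveI : Algebra.FormallyEtale S S' := Algebra.FormallyEtale.of_isLocalization W
  let e := (IsLocalizedModule.isBaseChange W S' loc).equiv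
  have key := Etale.ext_of_formallyUnramified (S := S) (M := M)
    (Basic.precomp (e.toLinearMap) hE) (Basic.precomp (e.toLinearMap) hE') fun m => by
      show E (e (1 ⊗ₜ m)) = E' (e (1 ⊗ₜ m))
      rw [IsBaseChange.equiv_tmul, one_smul, h]
  refine LinearMap.ext fun v => ?_
  obtain ⟨w, rfl⟩ := e.surjective v
  exact DFunLike.congr_fun key w

variable {X : Scheme.{u}} {A : Type u} [CommRing A] [Algebra A Γ(X, ⊤)]

/-- The algebra structure of a stalk over the base ring. -/
@[reducible] noncomputable def baseStalkAlg (x : X) : Algebra A (X.presheaf.stalk x) :=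
  ((X.presheaf.germ ⊤ x (Opens.mem_top x)).hom.comp (algebraMap A Γ(X, ⊤))).toAlgebra

/-- The algebra structure of a stalk over the global functions. -/
@[reducible] noncomputable def topStalkAlg (x : X) : Algebra Γ(X, ⊤) (X.presheaf.stalk x) :=
  (X.presheaf.germ ⊤ x (Opens.mem_top x)).hom.toAlgebra

attribute [local instance] baseStalkAlg topStalkAlg

/-- The module structure of a stalk over the base ring. -/
@[reducible] noncomputable def baseStalkMod (F : X.Modules) (x : X) :
    Module A (F.presheaf.stalk x) :=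
  Module.compHom _ (algebraMap A (X.presheaf.stalk x))

/-- The module structure of a stalk over the global functions. -/
@[reducible] noncomputable def topStalkMod (F : X.Modules) (x : X) :
    Module Γ(X, ⊤) (F.presheaf.stalk x) :=
  Module.compHom _ (algebraMap Γ(X, ⊤) (X.presheaf.stalk x))

attribute [local instance] baseStalkMod topStalkMod

theorem tower₁ (x : X) : IsScalarTower A Γ(X, ⊤) (X.presheaf.stalk x) :=
  IsScalarTower.of_algebraMap_eq fun _ => rfl

theorem tower₂ (F : X.Modules) (x : X) :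
    IsScalarTower A (X.presheaf.stalk x) (F.presheaf.stalk x) :=
  IsScalarTower.of_algebraMap_smul fun _ _ => rfl

theorem tower₃ (F : X.Modules) (x : X) :
    IsScalarTower Γ(X, ⊤) (X.presheaf.stalk x) (F.presheaf.stalk x) :=
  IsScalarTower.of_algebraMap_smul fun _ _ => rfl

theorem tower₄ (F : X.Modules) (x : X) :
    IsScalarTower A Γ(X, ⊤) (F.presheaf.stalk x) :=
  IsScalarTower.of_algebraMap_smul fun _ _ => rfl

attribute [local instance] tower₁ tower₂ tower₃ tower₄

/-- The germ map on global sections, as a linear map. -/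
noncomputable def germTop (F : X.Modules) (x : X) : Γ(F, ⊤) →ₗ[Γ(X, ⊤)] F.presheaf.stalk x where
  toFun := F.presheaf.germ ⊤ x (Opens.mem_top x)
  map_add' := map_add _
  map_smul' r m := StalkModule.germ_smul (M := F) (Opens.mem_top x) r m

theorem isLocalizedModule_germTop [IsAffine X] (F : X.Modules) (hF : Coh.IsQCoh F) (x : X) :
    IsLocalizedModule ((isAffineOpen_top X).primeIdealOf ⟨x, Opens.mem_top x⟩).asIdeal.primeCompl
      (germTop F x) := by
  haveI : F.IsQuasicoherent := hF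
  refine ⟨fun c => ?_, fun v => ?_, fun {m m'} h => ?_⟩
  · have hc := (QCoh.Stalk.mem_primeIdealOf_compl_iff (isAffineOpen_top X) (Opens.mem_top x) _).mp c.2
    have hu : IsUnit (algebraMap Γ(X, ⊤) (X.presheaf.stalk x) c) :=
      (X.mem_basicOpen _ x (Opens.mem_top x)).mp hc
    rw [Module.End.isUnit_iff]
    exact Function.bijective_iff_has_inverse.mpr ⟨fun v => (hu.unit⁻¹ : (X.presheaf.stalk x)ˣ).1 • v,
      fun v => by
        show (hu.unit⁻¹ : (X.presheaf.stalk x)ˣ).1 • (algebraMap Γ(X, ⊤) (X.presheaf.stalk x) c) • v = v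
        rw [smul_smul, IsUnit.val_inv_mul, one_smul], fun v => by
        show (algebraMap Γ(X, ⊤) (X.presheaf.stalk x) c) • (hu.unit⁻¹ : (X.presheaf.stalk x)ˣ).1 • v = v
        rw [smul_smul, IsUnit.mul_val_inv, one_smul]⟩
  · obtain ⟨s, t, hs, hst⟩ :=
      QCoh.Stalk.exists_smul_eq_germ F (isAffineOpen_top X) (x := x) (Opens.mem_top x) v
    exact ⟨⟨t, ⟨s, (QCoh.Stalk.mem_primeIdealOf_compl_iff (isAffineOpen_top X) (Opens.mem_top x) s).mpr hs⟩⟩,
      hst⟩
  · have h0 : F.presheaf.germ ⊤ x (Opens.mem_top x) (m - m') = 0 := by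
      rw [map_sub]; exact sub_eq_zero.mpr h
    obtain ⟨s, hs, hsm⟩ :=
      (QCoh.Stalk.germ_eq_zero_iff F (isAffineOpen_top X) (x := x) (Opens.mem_top x) _).mp h0
    exact ⟨⟨s, (QCoh.Stalk.mem_primeIdealOf_compl_iff (isAffineOpen_top X) (Opens.mem_top x) s).mpr hs⟩,
      sub_eq_zero.mp ((smul_sub s m m').symm.trans hsm)⟩

theorem isLocalization_topStalk [IsAffine X] (x : X) :
    IsLocalization ((isAffineOpen_top X).primeIdealOf ⟨x, Opens.mem_top x⟩).asIdeal.primeCompl
      (X.presheaf.stalk x) :=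
  (isAffineOpen_top X).isLocalization_stalk ⟨x, Opens.mem_top x⟩

variable {F G : X.Modules} [Module A Γ(F, ⊤)] [Module A Γ(G, ⊤)]
  [IsScalarTower A Γ(X, ⊤) Γ(F, ⊤)] [IsScalarTower A Γ(X, ⊤) Γ(G, ⊤)]

/-- `E` is a stalk of `D`. -/
def IsExt (k : ℕ) (D : Γ(F, ⊤) →ₗ[A] Γ(G, ⊤)) (x : X)
    (E : F.presheaf.stalk x →ₗ[A] G.presheaf.stalk x) : Prop :=
  Diff16.IsDiffOpLE A (X.presheaf.stalk x) (F.presheaf.stalk x) (G.presheaf.stalk x) k E ∧
    ∀ m, E (F.presheaf.germ ⊤ x (Opens.mem_top x) m) = G.presheaf.germ ⊤ x (Opens.mem_top x) (D m)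

theorem exists_isExt [IsAffine X] (hF : Coh.IsQCoh F) {k : ℕ} {D : Γ(F, ⊤) →ₗ[A] Γ(G, ⊤)}
    (hD : Diff16.IsDiffOpLE A Γ(X, ⊤) Γ(F, ⊤) Γ(G, ⊤) k D) (x : X) : ∃ E, IsExt k D x E := by
  haveI := isLocalizedModule_germTop F hF x
  haveI := isLocalization_topStalk (X := X) x
  exact exists_ext_localization (S' := X.presheaf.stalk x)
    ((isAffineOpen_top X).primeIdealOf ⟨x, Opens.mem_top x⟩).asIdeal.primeCompl (germTop F x)
    (Basic.postcomp (germTop G x) hD)

theorem isExt_unique [IsAffine X] (hF : Coh.IsQCoh F) {k : ℕ} {D : Γ(F, ⊤) →ₗ[A] Γ(G, ⊤)}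
    {x : X} {E E' : F.presheaf.stalk x →ₗ[A] G.presheaf.stalk x} (h : IsExt k D x E)
    (h' : IsExt k D x E') : E = E' := by
  haveI := isLocalizedModule_germTop F hF x
  haveI := isLocalization_topStalk (X := X) x
  exact ext_localization ((isAffineOpen_top X).primeIdealOf ⟨x, Opens.mem_top x⟩).asIdeal.primeCompl
    (germTop F x) h.1 h'.1 fun m => (h.2 m).trans (h'.2 m).symm

/-- Stalks of an operator applied to the germs of a section are locally the germs of a section. -/
theorem exists_local_section [IsAffine X] (hF : Coh.IsQCoh F) (k : ℕ) :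
    ∀ (D : Γ(F, ⊤) →ₗ[A] Γ(G, ⊤)) (E : ∀ x, F.presheaf.stalk x →ₗ[A] G.presheaf.stalk x),
      (∀ x, IsExt k D x (E x)) → ∀ (U : X.Opens) (t : Γ(F, U)) (x : X), x ∈ U →
      ∃ (U' : X.Opens) (hle : U' ≤ U) (g : Γ(G, U')), x ∈ U' ∧
        ∀ y (hy : y ∈ U'), G.presheaf.germ U' y hy g = E y (F.presheaf.germ U y (hle hy) t) := by
  haveI : F.IsQuasicoherent := hF
  induction k with
  | zero =>
    intro D E hE U t x hx
    obtain ⟨s, m, hs, hsm⟩ := QCoh.Stalk.exists_smul_eq_germ F (isAffineOpen_top X) (x := x)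
      (Opens.mem_top x) (F.presheaf.germ U x hx t)
    obtain ⟨U₁, hx₁, i₁, i₂, heq⟩ := TopCat.Presheaf.germ_eq F.presheaf x
      (show x ∈ U ⊓ X.basicOpen s from ⟨hx, hs⟩) (Opens.mem_top x)
      (X.presheaf.map (homOfLE (le_top : U ⊓ X.basicOpen s ≤ ⊤)).op s •
        F.presheaf.map (homOfLE inf_le_left).op t) m (by
        rw [StalkModule.germ_smul, TopCat.Presheaf.germ_res_apply, TopCat.Presheaf.germ_res_apply]
        exact hsm)
    have hsu : IsUnit (X.presheaf.map (homOfLE (le_top : U₁ ≤ ⊤)).op s) := by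
      have h : IsUnit (X.presheaf.map (homOfLE (le_top : X.basicOpen s ≤ ⊤)).op s) :=
        RingedSpace.isUnit_res_basicOpen _ s
      have h' := h.map (X.presheaf.map (homOfLE (fun y hy => (i₁.le hy).2 :
        U₁ ≤ X.basicOpen s)).op).hom
      rw [← CommRingCat.comp_apply, ← Functor.map_comp] at h'
      exact h'
    refine ⟨U₁, fun y hy => (i₁.le hy).1, (hsu.unit⁻¹ : Γ(X, U₁)ˣ).1 •
      G.presheaf.map (homOfLE le_top).op (D m), hx₁, fun y hy => ?_⟩
    have hy' : y ∈ U := (i₁.le hy).1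
    have e : X.presheaf.germ ⊤ y (Opens.mem_top y) s • F.presheaf.germ U y hy' t =
        F.presheaf.germ ⊤ y (Opens.mem_top y) m := by
      have h := congrArg (F.presheaf.germ U₁ y hy) heq
      rw [TopCat.Presheaf.germ_res_apply, TopCat.Presheaf.germ_res_apply,
        StalkModule.germ_smul, TopCat.Presheaf.germ_res_apply,
        TopCat.Presheaf.germ_res_apply] at h
      exact h
    have h2 := (hE y).1 (X.presheaf.germ ⊤ y (Opens.mem_top y) s) (F.presheaf.germ U y hy' t)
    rw [e, (hE y).2] at h2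
    rw [StalkModule.germ_smul, TopCat.Presheaf.germ_res_apply, h2, smul_smul,
      ← TopCat.Presheaf.germ_res_apply X.presheaf (homOfLE (le_top : U₁ ≤ ⊤)) y hy s, ← map_mul,
      IsUnit.val_inv_mul, map_one, one_smul]
  | succ k ih =>
    intro D E hE U t x hx
    obtain ⟨s, m, hs, hsm⟩ := QCoh.Stalk.exists_smul_eq_germ F (isAffineOpen_top X) (x := x)
      (Opens.mem_top x) (F.presheaf.germ U x hx t)
    obtain ⟨U₁, hx₁, i₁, i₂, heq⟩ := TopCat.Presheaf.germ_eq F.presheaf x
      (show x ∈ U ⊓ X.basicOpen s from ⟨hx, hs⟩) (Opens.mem_top x)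
      (X.presheaf.map (homOfLE (le_top : U ⊓ X.basicOpen s ≤ ⊤)).op s •
        F.presheaf.map (homOfLE inf_le_left).op t) m (by
        rw [StalkModule.germ_smul, TopCat.Presheaf.germ_res_apply, TopCat.Presheaf.germ_res_apply]
        exact hsm)
    obtain ⟨U₂, hle₂, g', hx₂, hg'⟩ := ih (Diff16.commutator A Γ(X, ⊤) Γ(F, ⊤) Γ(G, ⊤) D s)
      (fun y => Diff16.commutator A (X.presheaf.stalk y) (F.presheaf.stalk y) (G.presheaf.stalk y)
        (E y) (X.presheaf.germ ⊤ y (Opens.mem_top y) s)) (fun y => ⟨(hE y).1 _, fun m' => by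
        rw [Basic.commutator_apply, Basic.commutator_apply, ← StalkModule.germ_smul (M := F),
          (hE y).2, (hE y).2, map_sub, StalkModule.germ_smul (M := G)]⟩)
      (U ⊓ U₁) (F.presheaf.map (homOfLE inf_le_left).op t) x ⟨hx, hx₁⟩
    have h21 : U₂ ≤ U₁ := fun y hy => (hle₂ hy).2
    have hsu : IsUnit (X.presheaf.map (homOfLE (le_top : U₂ ≤ ⊤)).op s) := by
      have h : IsUnit (X.presheaf.map (homOfLE (le_top : X.basicOpen s ≤ ⊤)).op s) :=
        RingedSpace.isUnit_res_basicOpen _ s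
      have h' := h.map (X.presheaf.map (homOfLE (fun y hy => (i₁.le (h21 hy)).2 :
        U₂ ≤ X.basicOpen s)).op).hom
      rw [← CommRingCat.comp_apply, ← Functor.map_comp] at h'
      exact h'
    refine ⟨U₂, fun y hy => (hle₂ hy).1, (hsu.unit⁻¹ : Γ(X, U₂)ˣ).1 •
      (G.presheaf.map (homOfLE le_top).op (D m) - g'), hx₂, fun y hy => ?_⟩
    have hy' : y ∈ U := (hle₂ hy).1
    have e : X.presheaf.germ ⊤ y (Opens.mem_top y) s • F.presheaf.germ U y hy' t =
        F.presheaf.germ ⊤ y (Opens.mem_top y) m := by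
      have h := congrArg (F.presheaf.germ U₁ y (h21 hy)) heq
      rw [TopCat.Presheaf.germ_res_apply, TopCat.Presheaf.germ_res_apply,
        StalkModule.germ_smul, TopCat.Presheaf.germ_res_apply,
        TopCat.Presheaf.germ_res_apply] at h
      exact h
    have h2 := hg' y hy
    rw [TopCat.Presheaf.germ_res_apply, Basic.commutator_apply, e, (hE y).2] at h2
    rw [StalkModule.germ_smul, map_sub, TopCat.Presheaf.germ_res_apply, h2, sub_sub_cancel,
      smul_smul, ← TopCat.Presheaf.germ_res_apply X.presheaf (homOfLE (le_top : U₂ ≤ ⊤)) y hy s,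
      ← map_mul, IsUnit.val_inv_mul, map_one, one_smul]

omit [Module A Γ(F, ⊤)] [Module A Γ(G, ⊤)] [IsScalarTower A Γ(X, ⊤) Γ(F, ⊤)]
  [IsScalarTower A Γ(X, ⊤) Γ(G, ⊤)] in
/-- An additive map of sheaves with prescribed stalks. -/
theorem exists_presheafHom (E : ∀ x, F.presheaf.stalk x →+ G.presheaf.stalk x)
    (h : ∀ (U : X.Opens) (t : Γ(F, U)) (x : X), x ∈ U →
      ∃ (U' : X.Opens) (hle : U' ≤ U) (g : Γ(G, U')), x ∈ U' ∧
        ∀ y (hy : y ∈ U'), G.presheaf.germ U' y hy g = E y (F.presheaf.germ U y (hle hy) t)) :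
    ∃ D : F.presheaf ⟶ G.presheaf, ∀ x v, stalkAdd D x v = E x v := by
  have ex : ∀ (U : X.Opens) (t : Γ(F, U)), ∃ g : Γ(G, U), ∀ y (hy : y ∈ U),
      G.presheaf.germ U y hy g = E y (F.presheaf.germ U y hy t) := by
    intro U t
    choose U' hle g hx hg using fun x : U => h U t x.1 x.2
    have hc : TopCat.Presheaf.IsCompatible G.presheaf U' g := fun x y =>
      TopCat.Presheaf.section_ext ⟨G.presheaf, G.isSheaf⟩ (U' x ⊓ U' y) _ _ fun z hz => by
        change G.presheaf.germ _ z hz _ = G.presheaf.germ _ z hz _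
        rw [TopCat.Presheaf.germ_res_apply, TopCat.Presheaf.germ_res_apply, hg x z hz.1,
          hg y z hz.2]
    obtain ⟨gU, hgU, -⟩ := TopCat.Sheaf.existsUnique_gluing' ⟨G.presheaf, G.isSheaf⟩ U' U
      (fun x => homOfLE (hle x)) (fun y hy => Opens.mem_iSup.mpr ⟨⟨y, hy⟩, hx ⟨y, hy⟩⟩) g hc
    refine ⟨gU, fun y hy => ?_⟩
    rw [← hg ⟨y, hy⟩ y (hx ⟨y, hy⟩), ← hgU ⟨y, hy⟩, TopCat.Presheaf.germ_res_apply]
  choose u hu using ex
  have uniq : ∀ (U : X.Opens) (t : Γ(F, U)) (g : Γ(G, U)), (∀ y (hy : y ∈ U),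
      G.presheaf.germ U y hy g = E y (F.presheaf.germ U y hy t)) → g = u U t := fun U t g hg =>
    TopCat.Presheaf.section_ext ⟨G.presheaf, G.isSheaf⟩ U _ _ fun y hy =>
      (hg y hy).trans (hu U t y hy).symm
  let D : F.presheaf ⟶ G.presheaf :=
    { app := fun U => AddCommGrpCat.ofHom (AddMonoidHom.mk' (u U.unop) fun (a b : Γ(F, U.unop)) =>
        (uniq U.unop (a + b) (u U.unop a + u U.unop b) fun y hy => by
          rw [map_add, hu, hu, map_add, map_add]).symm)
      naturality := fun U V i => by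
        ext t
        refine (uniq V.unop _ _ fun y hy => ?_).symm
        show G.presheaf.germ V.unop y hy (G.presheaf.map i.unop.op (u U.unop t)) = _
        rw [TopCat.Presheaf.germ_res_apply, hu]
        exact congrArg (E y) (TopCat.Presheaf.germ_res_apply F.presheaf i.unop y hy t).symm }
  refine ⟨D, fun x v => ?_⟩
  obtain ⟨U, hx, t, rfl⟩ := TopCat.Presheaf.exists_germ_eq F.presheaf v
  rw [stalkAdd_germ]
  exact hu U t x hx

end Groth.Agent.Lib.PrinParts
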