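import Groth.Agent.Lib.PrinParts.Stalk
import Groth.Agent.Lib.QCoh.Pullback
import Groth.Agent.Lib.QCoh.Pushforward
import Groth.Prelude.Def_Coh

/-!
# The projections of the infinitesimal neighbourhood of the diagonal are affine
-/

universe u

open CategoryTheory CategoryTheory.Limits AlgebraicGeometry TopologicalSpace Opposite

set_option linter.style.haveILetI false

namespace Groth.Agent.Lib.PrinParts

open PrinPart

variable {X S : Scheme.{u}} (f : X ⟶ S) (n : ℕ)

theorem isEmbedding_pr1 : Topology.IsEmbedding (pr1 f n) :=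
  Function.LeftInverse.isEmbedding (f := toNbhd f n) (toNbhd_pr1_apply f n)
    (toNbhd f n).continuous (pr1 f n).continuous

theorem isAffineHom_pr1 : IsAffineHom (pr1 f n) := by
  refine isAffineHom_of_isInducing _ (isEmbedding_pr1 f n).isInducing ?_
  rw [Function.Surjective.range_eq fun x => ⟨_, pr1_toNbhd f n x⟩]
  exact isClosed_univ

theorem isQCoh_PMod (F : X.Modules) (hF : Coh.IsQCoh F) : Coh.IsQCoh (PMod f n F) := by
  haveI : F.IsQuasicoherent := hF
  haveI := isAffineHom_pr1 f n
  haveI := QCoh.Pullback.isQCoh_pullback (pr2 f n) F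
  exact QCoh.Pushforward.isQCoh_pushforward (pr1 f n)

end Groth.Agent.Lib.PrinParts
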