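import Groth.Agent.Lib.PrinParts.DiffOp

/-!
# The alternating-sum description of differential operators
-/

universe u

open CategoryTheory CategoryTheory.Limits AlgebraicGeometry TopologicalSpace Opposite
open scoped TensorProduct

set_option linter.style.haveILetI false

namespace Groth.Agent.Lib.PrinParts

open PrinPart Groth.Agent.Lib.Modules

attribute [local instance] stalkAlg nbhdAlg stalkBaseMod stalkBaseTower

variable {X S : Scheme.{u}} (f : X ⟶ S) {F G : X.Modules}

theorem germ_alt {D : F.presheaf ⟶ G.presheaf} (hD : IsBaseLinear f F G D) {k : ℕ} {U : X.Opens}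
    {x : X} (hx : x ∈ U) (a : Fin k → Γ(X, U)) (t : Γ(F, U)) :
    G.presheaf.germ U x hx (∑ H : Finset (Fin k),
        ((-1 : ℤ) ^ H.card) • ((∏ i ∈ H, a i) • D.app (op U) ((∏ i ∈ Hᶜ, a i) • t))) =
      DiffOp.Basic.alt (stalkLin f hD x) Finset.univ (fun i => X.presheaf.germ U x hx (a i))
        (F.presheaf.germ U x hx t) := by
  rw [DiffOp.Basic.alt, Finset.powerset_univ, map_sum]
  refine Finset.sum_congr rfl fun H _ => ?_
  rw [← Finset.compl_eq_univ_sdiff, map_zsmul]
  refine congrArg (((-1 : ℤ) ^ H.card) • ·) ?_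
  rw [StalkModule.germ_smul, ← stalkAdd_germ, StalkModule.germ_smul, map_prod, map_prod]
  rfl

theorem exists_common_germs {x : X} : ∀ {k : ℕ} (b : Fin k → X.presheaf.stalk x)
    (t : F.presheaf.stalk x), ∃ (U : X.Opens) (hx : x ∈ U) (a : Fin k → Γ(X, U)) (s : Γ(F, U)),
      (∀ i, X.presheaf.germ U x hx (a i) = b i) ∧ F.presheaf.germ U x hx s = t
  | 0, _, t => by
    obtain ⟨U, hx, s, rfl⟩ := TopCat.Presheaf.exists_germ_eq F.presheaf t
    exact ⟨U, hx, Fin.elim0, s, fun i => i.elim0, rfl⟩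
  | k + 1, b, t => by
    obtain ⟨U, hx, a, s, ha, rfl⟩ := exists_common_germs (fun i => b i.succ) t
    obtain ⟨W, hW, c, hc⟩ := TopCat.Presheaf.exists_germ_eq X.presheaf (b 0)
    have hUW : x ∈ U ⊓ W := ⟨hx, hW⟩
    refine ⟨U ⊓ W, hUW, Fin.cons (X.presheaf.map (homOfLE inf_le_right).op c)
      (fun i => X.presheaf.map (homOfLE inf_le_left).op (a i)),
      F.presheaf.map (homOfLE inf_le_left).op s, fun i => ?_, ?_⟩
    · refine Fin.cases ?_ (fun i => ?_) i
      · rw [Fin.cons_zero, TopCat.Presheaf.germ_res_apply, hc]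
      · rw [Fin.cons_succ, TopCat.Presheaf.germ_res_apply, ha]
    · exact TopCat.Presheaf.germ_res_apply _ _ _ _ _

theorem isDiffOpLE_iff_alt (n : ℕ) {D : F.presheaf ⟶ G.presheaf} (hD : IsBaseLinear f F G D) :
    IsDiffOpLE f F G n D ↔
      ∀ (U : X.Opens) (a : Fin (n + 1) → Γ(X, U)) (t : Γ(F, U)),
        (∑ H : Finset (Fin (n + 1)),
          ((-1 : ℤ) ^ H.card) • ((∏ i ∈ H, a i) • D.app (op U) ((∏ i ∈ Hᶜ, a i) • t))) = 0 := by
  constructor
  · intro h U a t
    refine TopCat.Presheaf.section_ext ⟨G.presheaf, G.isSheaf⟩ U _ _ fun x hx => ?_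
    refine Eq.trans ?_ (map_zero _).symm
    refine (germ_alt f hD hx a t).trans ?_
    exact DiffOp.Basic.alt_eq_zero (stalkOrd_of_isDiffOpLE f h hD x) (Finset.card_fin _) _ _
  · intro h
    refine isDiffOpLE_of_stalkOrd f n hD fun x => DiffOp.Basic.of_alt fun b t => ?_
    obtain ⟨U, hx, a, s, ha, rfl⟩ := exists_common_germs b t
    rw [show b = fun i => X.presheaf.germ U x hx (a i) from funext fun i => (ha i).symm,
      ← germ_alt f hD hx a s, h U a s, map_zero]

/-- An operator of order at most one on functions: the Leibniz rule up to a linear term. -/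
theorem leibniz_of_order_one {D : (Coh.structureModule X).presheaf ⟶ G.presheaf}
    (h : IsDiffOpLE f (Coh.structureModule X) G 1 D) (U : X.Opens) (a b : Γ(X, U)) :
    D.app (op U) (OmegaSh.strSect X U (a * b)) + (a * b) • D.app (op U) (OmegaSh.strSect X U 1) =
      a • D.app (op U) (OmegaSh.strSect X U b) + b • D.app (op U) (OmegaSh.strSect X U a) := by
  have hD := isBaseLinear_of_isDiffOpLE f h
  refine TopCat.Presheaf.section_ext ⟨G.presheaf, G.isSheaf⟩ U _ _ fun x hx => ?_
  have ho := stalkOrd_of_isDiffOpLE f h hD x (X.presheaf.germ U x hx a)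
    (X.presheaf.germ U x hx b) ((Coh.structureModule X).presheaf.germ U x hx (OmegaSh.strSect X U 1))
  simp only [DiffOp.Basic.commutator_apply] at ho
  change stalkAdd D x _ - _ • stalkAdd D x _ =
    _ • (stalkAdd D x _ - _ • stalkAdd D x _) at ho
  rw [← StalkModule.germ_smul, ← StalkModule.germ_smul, ← StalkModule.germ_smul,
    stalkAdd_germ, stalkAdd_germ, stalkAdd_germ, stalkAdd_germ, smul_sub, smul_smul,
    ← StalkModule.germ_smul, ← StalkModule.germ_smul] at ho
  rw [← OmegaSh.strSect_mul, ← OmegaSh.strSect_mul, ← OmegaSh.strSect_mul, mul_one, mul_one,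
    mul_one] at ho
  change G.presheaf.germ U x hx _ = G.presheaf.germ U x hx _
  rw [map_add, map_add, mul_comm a b]
  rw [mul_comm a b] at ho
  rw [smul_smul, ← map_mul, ← StalkModule.germ_smul] at ho
  linear_combination (norm := abel) ho

end Groth.Agent.Lib.PrinParts
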