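import Groth.Agent.Lib.PrinParts.Module
import Groth.Agent.Lib.DiffOp.Basic

/-!
# Differential operators through their stalks
-/

universe u

open CategoryTheory CategoryTheory.Limits AlgebraicGeometry TopologicalSpace Opposite
open scoped TensorProduct

set_option linter.style.haveILetI false

namespace Groth.Agent.Lib.PrinParts

open PrinPart Groth.Agent.Lib.Modules

attribute [local instance] stalkAlg nbhdAlg

variable {X S : Scheme.{u}} (f : X ⟶ S)

/-- The module structure over the stalk of the base. -/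
@[reducible] noncomputable def stalkBaseMod (F : X.Modules) (x : X) :
    Module (S.presheaf.stalk (f x)) (F.presheaf.stalk x) :=
  Module.compHom _ (algebraMap (S.presheaf.stalk (f x)) (X.presheaf.stalk x))

attribute [local instance] stalkBaseMod

theorem stalkBaseTower (F : X.Modules) (x : X) :
    IsScalarTower (S.presheaf.stalk (f x)) (X.presheaf.stalk x) (F.presheaf.stalk x) :=
  IsScalarTower.of_algebraMap_smul fun _ _ => rfl

attribute [local instance] stalkBaseTower

/-- `D` commutes with the functions coming from the base. -/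
def IsBaseLinear (F G : X.Modules) (D : F.presheaf ⟶ G.presheaf) : Prop :=
  ∀ (V : S.Opens) (s : Γ(S, V)) (U : X.Opens) (hU : U ≤ f ⁻¹ᵁ V) (t : Γ(F, U)),
    D.app (op U) (X.presheaf.map (homOfLE hU).op (f.app V s) • t) =
      X.presheaf.map (homOfLE hU).op (f.app V s) • D.app (op U) t

theorem germ_base {x : X} {V : S.Opens} {U : X.Opens} (hU : U ≤ f ⁻¹ᵁ V) (hx : x ∈ U)
    (s : Γ(S, V)) :
    algebraMap (S.presheaf.stalk (f x)) (X.presheaf.stalk x) (S.presheaf.germ V _ (hU hx) s) =
      X.presheaf.germ U x hx (X.presheaf.map (homOfLE hU).op (f.app V s)) := by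
  rw [TopCat.Presheaf.germ_res_apply]
  exact Scheme.Hom.germ_stalkMap_apply f V x (hU hx) s

theorem dP_base_smul (n : ℕ) (F : X.Modules) {V : S.Opens} {U : X.Opens} (hU : U ≤ f ⁻¹ᵁ V)
    (s : Γ(S, V)) (t : Γ(F, U)) :
    dP f n F U (X.presheaf.map (homOfLE hU).op (f.app V s) • t) =
      X.presheaf.map (homOfLE hU).op (f.app V s) • dP f n F U t := by
  refine pgerm_ext fun z hz => ?_
  rw [pgerm_smul, pgerm_dP, pgerm_dP, StalkModule.germ_smul, ← germ_base f hU hz s, lam_base,
    gen_smul_right, gen_smul]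

variable {f} {F G H : X.Modules}

/-- The map of stalks of an additive map of sheaves. -/
noncomputable def stalkAdd (D : F.presheaf ⟶ G.presheaf) (x : X) :
    F.presheaf.stalk x →+ G.presheaf.stalk x :=
  ((TopCat.Presheaf.stalkFunctor AddCommGrpCat.{u} x).map D).hom

theorem stalkAdd_germ (D : F.presheaf ⟶ G.presheaf) {U : X.Opens} {x : X} (hx : x ∈ U)
    (t : Γ(F, U)) :
    stalkAdd D x (F.presheaf.germ U x hx t) = G.presheaf.germ U x hx (D.app (op U) t) :=
  TopCat.Presheaf.stalkFunctor_map_germ_apply U x hx D t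

theorem stalkAdd_comp (D : F.presheaf ⟶ G.presheaf) (E : G.presheaf ⟶ H.presheaf) (x : X)
    (v : F.presheaf.stalk x) : stalkAdd (D ≫ E) x v = stalkAdd E x (stalkAdd D x v) := by
  rw [stalkAdd, Functor.map_comp]
  rfl

variable (f)

/-- The map of stalks, linear over the base. -/
noncomputable def stalkLin {D : F.presheaf ⟶ G.presheaf} (hD : IsBaseLinear f F G D) (x : X) :
    F.presheaf.stalk x →ₗ[S.presheaf.stalk (f x)] G.presheaf.stalk x :=
  { stalkAdd D x with
    map_smul' := fun s v => by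
      obtain ⟨V, hV, s, rfl⟩ := TopCat.Presheaf.exists_germ_eq S.presheaf s
      obtain ⟨U, hU, t, rfl⟩ := TopCat.Presheaf.exists_germ_eq F.presheaf v
      have hle : U ⊓ f ⁻¹ᵁ V ≤ f ⁻¹ᵁ V := inf_le_right
      have hxm : x ∈ U ⊓ f ⁻¹ᵁ V := ⟨hU, hV⟩
      rw [← TopCat.Presheaf.germ_res_apply F.presheaf (homOfLE (inf_le_left : U ⊓ f ⁻¹ᵁ V ≤ U)) x
        hxm t]
      show stalkAdd D x (algebraMap (S.presheaf.stalk (f x)) (X.presheaf.stalk x) _ • _) =
        algebraMap (S.presheaf.stalk (f x)) (X.presheaf.stalk x) _ • stalkAdd D x _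
      rw [RingHom.id_apply, show S.presheaf.germ V (f x) hV s = S.presheaf.germ V (f x) (hle hxm) s from rfl,
        germ_base f hle hxm s, ← StalkModule.germ_smul, stalkAdd_germ, stalkAdd_germ,
        hD V s _ hle, StalkModule.germ_smul] }

/-- `D` has order at most `n` at every point. -/
def StalkOrd (n : ℕ) {D : F.presheaf ⟶ G.presheaf} (hD : IsBaseLinear f F G D) : Prop :=
  ∀ x : X, Diff16.IsDiffOpLE (S.presheaf.stalk (f x)) (X.presheaf.stalk x) (F.presheaf.stalk x)
    (G.presheaf.stalk x) n (stalkLin f hD x)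

theorem isBaseLinear_of_isDiffOpLE {n : ℕ} {D : F.presheaf ⟶ G.presheaf}
    (h : IsDiffOpLE f F G n D) : IsBaseLinear f F G D := by
  obtain ⟨u, hu⟩ := h
  intro V s U hU t
  rw [hu, hu, dP_base_smul, Scheme.Modules.Hom.app_smul]

/-- `b ↦ D (b • t)`. -/
noncomputable def atVec {D : F.presheaf ⟶ G.presheaf} (hD : IsBaseLinear f F G D) {x : X}
    (t : F.presheaf.stalk x) : X.presheaf.stalk x →ₗ[S.presheaf.stalk (f x)] G.presheaf.stalk x :=
  (stalkLin f hD x) ∘ₗ
    (LinearMap.toSpanSingleton (X.presheaf.stalk x) (F.presheaf.stalk x) t).restrictScalars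
      (S.presheaf.stalk (f x))

/-- `a ⊗ b ↦ a • D (b • t)`. -/
noncomputable def pairing {D : F.presheaf ⟶ G.presheaf} (hD : IsBaseLinear f F G D) {x : X}
    (t : F.presheaf.stalk x) :
    X.presheaf.stalk x ⊗[S.presheaf.stalk (f x)] X.presheaf.stalk x →+ G.presheaf.stalk x :=
  (Diff16.linearize (S.presheaf.stalk (f x)) (X.presheaf.stalk x) (X.presheaf.stalk x)
    (G.presheaf.stalk x) (atVec f hD t)).toAddMonoidHom

theorem pairing_tmul {D : F.presheaf ⟶ G.presheaf} (hD : IsBaseLinear f F G D) {x : X}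
    (t : F.presheaf.stalk x) (a b : X.presheaf.stalk x) :
    pairing f hD t (a ⊗ₜ b) = a • stalkAdd D x (b • t) := rfl

theorem pairing_add {D : F.presheaf ⟶ G.presheaf} (hD : IsBaseLinear f F G D) {x : X}
    (t t' : F.presheaf.stalk x) (τ : X.presheaf.stalk x ⊗[S.presheaf.stalk (f x)] X.presheaf.stalk x) :
    pairing f hD (t + t') τ = pairing f hD t τ + pairing f hD t' τ := by
  induction τ using TensorProduct.induction_on with
  | zero => rw [map_zero, map_zero, map_zero, add_zero]
  | add p q hp hq => rw [map_add, map_add, map_add, hp, hq]; abel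
  | tmul a b => rw [pairing_tmul, pairing_tmul, pairing_tmul, smul_add, map_add, smul_add]

theorem pairing_smul {D : F.presheaf ⟶ G.presheaf} (hD : IsBaseLinear f F G D) {x : X}
    (t : F.presheaf.stalk x) (c : X.presheaf.stalk x)
    (τ : X.presheaf.stalk x ⊗[S.presheaf.stalk (f x)] X.presheaf.stalk x) :
    pairing f hD t (τ * ((1 : X.presheaf.stalk x) ⊗ₜ c)) = pairing f hD (c • t) τ := by
  induction τ using TensorProduct.induction_on with
  | zero => rw [zero_mul, map_zero, map_zero]
  | add p q hp hq => rw [add_mul, map_add, map_add, hp, hq]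
  | tmul a b =>
    rw [Algebra.TensorProduct.tmul_mul_tmul, mul_one, pairing_tmul, pairing_tmul, smul_smul]

theorem exists_stalkMap_of_ord (n : ℕ) {D : F.presheaf ⟶ G.presheaf}
    (hD : IsBaseLinear f F G D) (hord : StalkOrd f n hD) (z : nbhd f n) :
    ∃ v : (nbhdMod f n F).presheaf.stalk z →+ G.presheaf.stalk (pr2 f n z),
      ∀ τ t, v (gen f n F z (phi f n z τ) t) = pairing f hD t τ := by
  have wd : ∀ (t : F.presheaf.stalk (pr2 f n z)) τ τ', phi f n z τ = phi f n z τ' →
      pairing f hD t τ = pairing f hD t τ' := by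
    intro t τ τ' h
    rw [← sub_eq_zero, ← map_sub]
    refine DiffOp.Basic.linearize_vanish (DiffOp.Basic.precomp _ (hord (pr2 f n z))) _ ?_
    rw [← phi_eq_zero_iff, map_sub, h, sub_self]
  let sec := Function.surjInv (phi_surjective f n z)
  have hsec : ∀ σ, phi f n z (sec σ) = σ := Function.surjInv_eq (phi_surjective f n z)
  let h : (nbhd f n).presheaf.stalk z →+ F.presheaf.stalk (pr2 f n z) →+
      G.presheaf.stalk (pr2 f n z) :=
    AddMonoidHom.mk' (fun σ => AddMonoidHom.mk' (fun t => pairing f hD t (sec σ))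
        fun t t' => pairing_add f hD t t' _)
      fun σ σ' => by
        refine AddMonoidHom.ext fun t => ?_
        show pairing f hD t (sec (σ + σ')) = pairing f hD t (sec σ) + pairing f hD t (sec σ')
        rw [← map_add]
        exact wd t _ _ (by rw [map_add, hsec, hsec, hsec])
  let h' := TensorProduct.liftAddHom (R := X.presheaf.stalk (pr2 f n z)) h fun c σ t => by
    show pairing f hD t (sec (c • σ)) = pairing f hD (c • t) (sec σ)
    rw [← pairing_smul]
    refine wd t _ _ ?_
    rw [hsec, map_mul, hsec, phi_tmul, map_one, one_mul, Algebra.smul_def, mul_comm]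
    rfl
  refine ⟨h'.comp (compEquiv f n F z).symm.toLinearMap.toAddMonoidHom, fun τ t => ?_⟩
  show h' ((compEquiv f n F z).symm (compEquiv f n F z _)) = _
  rw [LinearEquiv.symm_apply_apply]
  show h (phi f n z τ) t = _
  exact wd t _ _ (hsec _)

theorem stalkMap_pgerm {n : ℕ} {D : F.presheaf ⟶ G.presheaf} (hD : IsBaseLinear f F G D)
    {z : nbhd f n} {v : (nbhdMod f n F).presheaf.stalk z →+ G.presheaf.stalk (pr2 f n z)}
    (hv : ∀ τ t, v (gen f n F z (phi f n z τ) t) = pairing f hD t τ)
    {U : X.Opens} (hz : pr2 f n z ∈ U) (a : Γ(X, U)) (t : Γ(F, U)) :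
    v (pgerm z hz (a • dP f n F U t)) = G.presheaf.germ U _ hz (a • D.app (op U) t) := by
  rw [pgerm_smul, pgerm_dP, ← gen_smul, mul_one]
  have e : lam1 f n z (X.presheaf.germ U _ hz a) = phi f n z (X.presheaf.germ U _ hz a ⊗ₜ 1) := by
    rw [phi_tmul, map_one, mul_one]
  rw [e, hv, pairing_tmul, one_smul, stalkAdd_germ, StalkModule.germ_smul]

theorem isDiffOpLE_of_stalkOrd (n : ℕ) {D : F.presheaf ⟶ G.presheaf}
    (hD : IsBaseLinear f F G D) (hord : StalkOrd f n hD) : IsDiffOpLE f F G n D := by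
  choose v hv using exists_stalkMap_of_ord f n hD hord
  let Sol : ∀ (U : X.Opens), Γ(PMod f n F, U) → Γ(G, U) → Prop := fun U m g =>
    ∀ (z : nbhd f n) (hz : pr2 f n z ∈ U), G.presheaf.germ U _ hz g = v z (pgerm z hz m)
  have uniq : ∀ U m g g', Sol U m g → Sol U m g' → g = g' := by
    intro U m g g' h h'
    refine TopCat.Presheaf.section_ext ⟨G.presheaf, G.isSheaf⟩ U g g' fun x hx => ?_
    obtain ⟨z, rfl⟩ := exists_pr2_eq f n x
    exact (h z hx).trans (h' z hx).symm
  have res : ∀ U U' (hle : U' ≤ U) m g, Sol U m g →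
      Sol U' ((PMod f n F).presheaf.map (homOfLE hle).op m) (G.presheaf.map (homOfLE hle).op g) := by
    intro U U' hle m g h z hz
    rw [TopCat.Presheaf.germ_res_apply, h z (hle hz), pgerm_map]
  have span : ∀ U, ∀ m ∈ dSpan f n F U, ∀ a : Γ(X, U), ∃ g, Sol U (a • m) g := by
    intro U m hm
    induction hm using Submodule.span_induction with
    | mem m hm =>
      obtain ⟨t, rfl⟩ := hm
      exact fun a => ⟨a • D.app (op U) t, fun z hz => (stalkMap_pgerm f hD (hv z) hz a t).symm⟩
    | zero => exact fun a => ⟨0, fun z hz => by rw [smul_zero, map_zero, pgerm_zero, map_zero]⟩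
    | add p q _ _ hp hq =>
      intro a
      obtain ⟨g, hg⟩ := hp a
      obtain ⟨g', hg'⟩ := hq a
      exact ⟨g + g', fun z hz => by rw [smul_add, map_add, pgerm_add, map_add, hg z hz, hg' z hz]⟩
    | smul r p _ hp =>
      intro a
      rw [smul_smul]
      exact hp _
  have ex : ∀ U m, ∃ g, Sol U m g := by
    intro U m
    choose U' hle hx hm using fun x : U => exists_dSpan f n F m x.2
    choose g hg using fun x : U => by
      simpa only [one_smul] using span (U' x) _ (hm x) 1
    have hc : TopCat.Presheaf.IsCompatible G.presheaf U' g := by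
      intro x y
      refine uniq _ ((PMod f n F).presheaf.map (homOfLE (inf_le_left.trans (hle x))).op m) _ _ ?_ ?_
      · intro z hz
        rw [TopCat.Presheaf.germ_res_apply, hg x z hz.1, pgerm_map, pgerm_map]
      · intro z hz
        rw [TopCat.Presheaf.germ_res_apply, hg y z hz.2, pgerm_map, pgerm_map]
    obtain ⟨gU, hgU, -⟩ := TopCat.Sheaf.existsUnique_gluing' ⟨G.presheaf, G.isSheaf⟩ U' U
      (fun x => homOfLE (hle x)) (fun y hy => Opens.mem_iSup.mpr ⟨⟨y, hy⟩, hx ⟨y, hy⟩⟩) g hc
    refine ⟨gU, fun z hz => ?_⟩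
    have h1 := hg ⟨_, hz⟩ z (hx ⟨_, hz⟩)
    rw [pgerm_map] at h1
    rw [← h1, ← hgU ⟨_, hz⟩, TopCat.Presheaf.germ_res_apply]
  choose u hu using ex
  have hadd : ∀ U m m', u U (m + m') = u U m + u U m' := fun U m m' =>
    uniq U _ _ _ (hu U _) fun z hz => by
      rw [map_add, pgerm_add, map_add, hu U m z hz, hu U m' z hz]
  have hsmul : ∀ U (r : Γ(X, U)) m, u U (r • m) = r • u U m := by
    intro U r m
    refine TopCat.Presheaf.section_ext ⟨G.presheaf, G.isSheaf⟩ U _ _ fun x hx => ?_
    obtain ⟨U', hle, hx', hm⟩ := exists_dSpan f n F m hx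
    let m' := (PMod f n F).presheaf.map (homOfLE hle).op m
    let r' := X.presheaf.map (homOfLE hle).op r
    suffices h : u U' (r' • m') = r' • u U' m' by
      have e1 : G.presheaf.map (homOfLE hle).op (u U (r • m)) = u U' (r' • m') :=
        uniq U' _ _ _ (by
          have := res U U' hle _ _ (hu U (r • m))
          rwa [Scheme.Modules.map_smul] at this) (hu U' _)
      have e2 : G.presheaf.map (homOfLE hle).op (r • u U m) = r' • u U' m' := by
        rw [Scheme.Modules.map_smul]
        exact congrArg (r' • ·) (uniq U' _ _ _ (res U U' hle _ _ (hu U m)) (hu U' _))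
      have := congrArg (G.presheaf.germ U' x hx') (e1.trans (h.trans e2.symm))
      rwa [TopCat.Presheaf.germ_res_apply, TopCat.Presheaf.germ_res_apply] at this
    suffices key : ∀ p ∈ dSpan f n F U', ∀ a : Γ(X, U'), u U' (a • p) = a • u U' p from key _ hm r'
    intro p hp
    induction hp using Submodule.span_induction with
    | mem p hp =>
      obtain ⟨t, rfl⟩ := hp
      intro r'
      have e : ∀ a : Γ(X, U'), u U' (a • dP f n F U' t) = a • D.app (op U') t := fun a =>
        uniq U' _ _ _ (hu U' _) fun z hz => (stalkMap_pgerm f hD (hv z) hz a t).symm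
      rw [e, ← one_smul Γ(X, U') (dP f n F U' t), e, one_smul]
    | zero =>
      intro r'
      rw [smul_zero, show u U' 0 = 0 from uniq U' _ _ _ (hu U' _) fun z hz => by
        rw [map_zero, pgerm_zero, map_zero], smul_zero]
    | add p q _ _ hp hq => intro r'; rw [smul_add, hadd, hadd, hp r', hq r', smul_add]
    | smul s p _ hp => intro r'; rw [smul_smul, hp (r' * s), hp s, smul_smul]
  let φ : (PMod f n F).presheaf ⟶ G.presheaf :=
    { app := fun U => AddCommGrpCat.ofHom (AddMonoidHom.mk' (u U.unop) (hadd U.unop))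
      naturality := fun U U' i => by
        ext m
        exact uniq U'.unop _ _ _ (hu U'.unop _) (res U.unop U'.unop i.unop.le m _ (hu U.unop m)) }
  refine ⟨⟨PresheafOfModules.homMk φ fun U r m => hsmul U.unop r m⟩, fun U t => ?_⟩
  show D.app (op U) t = u U (dP f n F U t)
  refine uniq U _ _ _ (fun z hz => ?_) (hu U _)
  have := stalkMap_pgerm f hD (hv z) hz 1 t
  rwa [one_smul, one_smul, eq_comm] at this

theorem stalkOrd_of_isDiffOpLE {n : ℕ} {D : F.presheaf ⟶ G.presheaf}
    (h : IsDiffOpLE f F G n D) (hD : IsBaseLinear f F G D) : StalkOrd f n hD := by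
  obtain ⟨u, hu⟩ := h
  intro x
  obtain ⟨z, rfl⟩ := exists_pr2_eq f n x
  -- the map induced by `u` at `z`
  have key : ∀ (τ : X.presheaf.stalk (pr2 f n z) ⊗[S.presheaf.stalk (f (pr2 f n z))]
      X.presheaf.stalk (pr2 f n z)) (t : F.presheaf.stalk (pr2 f n z)),
      ∃ (U : X.Opens) (hz : pr2 f n z ∈ U) (m : Γ(PMod f n F, U)),
        pgerm z hz m = gen f n F z (phi f n z τ) t ∧
          G.presheaf.germ U _ hz (u.app U m) = pairing f hD t τ := by
    intro τ t
    induction τ using TensorProduct.induction_on with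
    | zero =>
      exact ⟨⊤, Opens.mem_top _, 0, by rw [map_zero, gen_zero_left, pgerm_zero],
        by rw [map_zero, map_zero, map_zero]⟩
    | add a b ha hb =>
      obtain ⟨U, hz, m, e, e'⟩ := ha
      obtain ⟨U', hz', m', e₂, e₂'⟩ := hb
      have hzz : pr2 f n z ∈ U ⊓ U' := ⟨hz, hz'⟩
      refine ⟨U ⊓ U', hzz, (PMod f n F).presheaf.map (homOfLE inf_le_left).op m +
        (PMod f n F).presheaf.map (homOfLE inf_le_right).op m', ?_, ?_⟩
      · rw [pgerm_add, pgerm_map, pgerm_map, e, e₂, map_add, gen_add_left]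
      · have n₁ : u.app (U ⊓ U') ((PMod f n F).presheaf.map (homOfLE inf_le_left).op m) =
            G.presheaf.map (homOfLE inf_le_left).op (u.app U m) :=
          ConcreteCategory.congr_hom (u.mapPresheaf.naturality (homOfLE inf_le_left).op) m
        have n₂ : u.app (U ⊓ U') ((PMod f n F).presheaf.map (homOfLE inf_le_right).op m') =
            G.presheaf.map (homOfLE inf_le_right).op (u.app U' m') :=
          ConcreteCategory.congr_hom (u.mapPresheaf.naturality (homOfLE inf_le_right).op) m'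
        rw [map_add, n₁, n₂, map_add, TopCat.Presheaf.germ_res_apply,
          TopCat.Presheaf.germ_res_apply, e', e₂', map_add]
    | tmul a b =>
      obtain ⟨U, hU, a, w, rfl, hw⟩ := StalkModule.exists_germ_eq₂ a (b • t)
      refine ⟨U, hU, a • dP f n F U w, ?_, ?_⟩
      · rw [pgerm_smul, pgerm_dP, hw, gen_smul_right, mul_one, ← gen_smul, phi_tmul]
      · rw [Scheme.Modules.Hom.app_smul, ← hu, StalkModule.germ_smul, ← stalkAdd_germ, hw,
          pairing_tmul]
  have vanish : ∀ (t : F.presheaf.stalk (pr2 f n z)), Diff16.IsDiffOpLE _ _ _ _ n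
      (atVec f hD t) := fun t => DiffOp.Basic.of_linearize_vanish fun τ hτ => by
    obtain ⟨U, hz, m, e, e'⟩ := key τ t
    have h0 : pgerm z hz m = pgerm z hz 0 := by
      rw [e, (phi_eq_zero_iff f n z τ).mpr hτ, gen_zero_left, pgerm_zero]
    obtain ⟨U', hle, hz', heq⟩ := exists_res_eq hz h0
    rw [map_zero] at heq
    show pairing f hD t τ = 0
    rw [← e', ← TopCat.Presheaf.germ_res_apply G.presheaf (homOfLE hle) _ hz' (u.app U m)]
    have nu : u.app U' ((PMod f n F).presheaf.map (homOfLE hle).op m) =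
        G.presheaf.map (homOfLE hle).op (u.app U m) :=
      ConcreteCategory.congr_hom (u.mapPresheaf.naturality (homOfLE hle).op) m
    rw [← nu, heq, map_zero, map_zero]
  refine DiffOp.Basic.of_alt fun b t => ?_
  have := DiffOp.Basic.alt_eq_zero (vanish t) (Finset.card_fin (n + 1)) b 1
  simpa [DiffOp.Basic.alt, atVec, smul_smul] using this

theorem isDiffOpLE_iff_stalkOrd (n : ℕ) {D : F.presheaf ⟶ G.presheaf}
    (hD : IsBaseLinear f F G D) : IsDiffOpLE f F G n D ↔ StalkOrd f n hD :=
  ⟨fun h => stalkOrd_of_isDiffOpLE f h hD, isDiffOpLE_of_stalkOrd f n hD⟩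

theorem isDiffOpLE_mono {n m : ℕ} (h : n ≤ m) {D : F.presheaf ⟶ G.presheaf}
    (hD : IsDiffOpLE f F G n D) : IsDiffOpLE f F G m D := by
  have hl := isBaseLinear_of_isDiffOpLE f hD
  exact isDiffOpLE_of_stalkOrd f m hl fun x =>
    DiffOp.Basic.mono h (stalkOrd_of_isDiffOpLE f hD hl x)

theorem isDiffOpLE_comp {n n' : ℕ} {D : F.presheaf ⟶ G.presheaf} {E : G.presheaf ⟶ H.presheaf}
    (hD : IsDiffOpLE f F G n D) (hE : IsDiffOpLE f G H n' E) :
    IsDiffOpLE f F H (n + n') (D ≫ E) := by
  have hlD := isBaseLinear_of_isDiffOpLE f hD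
  have hlE := isBaseLinear_of_isDiffOpLE f hE
  have hl : IsBaseLinear f F H (D ≫ E) := fun V s U hU t => by
    show E.app (op U) (D.app (op U) _) = _ • E.app (op U) (D.app (op U) t)
    rw [hlD V s U hU t, hlE V s U hU]
  refine isDiffOpLE_of_stalkOrd f _ hl fun x => ?_
  have e : stalkLin f hl x = (stalkLin f hlE x) ∘ₗ (stalkLin f hlD x) :=
    LinearMap.ext fun v => stalkAdd_comp D E x v
  rw [e]
  exact DiffOp.Basic.comp (stalkOrd_of_isDiffOpLE f hD hlD x) (stalkOrd_of_isDiffOpLE f hE hlE x)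

theorem isDiffOpLE_zero_iff (D : F.presheaf ⟶ G.presheaf) :
    IsDiffOpLE f F G 0 D ↔
      ∀ (U : X.Opens) (a : Γ(X, U)) (t : Γ(F, U)), D.app (op U) (a • t) = a • D.app (op U) t := by
  constructor
  · intro h U a t
    have hl := isBaseLinear_of_isDiffOpLE f h
    refine TopCat.Presheaf.section_ext ⟨G.presheaf, G.isSheaf⟩ U _ _ fun x hx => ?_
    have := stalkOrd_of_isDiffOpLE f h hl x (X.presheaf.germ U x hx a) (F.presheaf.germ U x hx t)
    change stalkAdd D x _ = _ • stalkAdd D x _ at this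
    rw [← StalkModule.germ_smul, stalkAdd_germ, stalkAdd_germ, ← StalkModule.germ_smul] at this
    exact this
  · intro h
    refine isDiffOpLE_of_stalkOrd f 0 (fun V s U hU t => h U _ t) fun x a v => ?_
    obtain ⟨U, hx, a, t, rfl, rfl⟩ := StalkModule.exists_germ_eq₂ a v
    show stalkAdd D x _ = _ • stalkAdd D x _
    rw [← StalkModule.germ_smul, stalkAdd_germ, stalkAdd_germ, ← StalkModule.germ_smul, h]

theorem isDiffOpLE_dP (n : ℕ) (F : X.Modules) : IsDiffOpLE f F (PMod f n F) n (dPHom f n F) :=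
  ⟨𝟙 _, fun _ _ => rfl⟩

theorem dP_zero_smul (F : X.Modules) (U : X.Opens) (a : Γ(X, U)) (t : Γ(F, U)) :
    dP f 0 F U (a • t) = a • dP f 0 F U t :=
  (isDiffOpLE_zero_iff f (dPHom f 0 F)).mp (isDiffOpLE_dP f 0 F) U a t

theorem dP_zero_bijective (F : X.Modules) (U : X.Opens) : Function.Bijective (dP f 0 F U) := by
  obtain ⟨u, hu⟩ := (isDiffOpLE_zero_iff f (𝟙 F.presheaf)).mpr fun _ _ _ => rfl
  let d : F ⟶ PMod f 0 F :=
    ⟨PresheafOfModules.homMk (dPHom f 0 F) fun V r m => dP_zero_smul f F V.unop r m⟩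
  have hd : u ≫ d = 𝟙 _ := hom_ext_of_dP _ _ fun V t => by
    show d.app V (u.app V (dP f 0 F V t)) = _
    rw [← hu]
    rfl
  refine ⟨fun a b h => ?_, fun m => ⟨u.app U m, ?_⟩⟩
  · have ha := hu U a
    have hb := hu U b
    exact ha.trans ((congrArg (u.app U) h).trans hb.symm)
  · exact congrArg (fun k : PMod f 0 F ⟶ PMod f 0 F => k.app U m) hd

end Groth.Agent.Lib.PrinParts
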