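import Groth.Agent.Lib.PrinParts.Symm
import Groth.Agent.Lib.PrinParts.Affine
import Groth.Agent.Lib.Cyc.FP.Stalk
import Groth.Agent.Lib.AssPt.Basic
import Groth.Prelude.Def_PicLoc
import Mathlib.RingTheory.Flat.Basic

/-!
# Flat sheaves of principal parts
-/

universe u

open CategoryTheory CategoryTheory.Limits AlgebraicGeometry TopologicalSpace Opposite

set_option linter.style.haveILetI false

namespace Groth.Agent.Lib.PrinParts

open PrinPart Groth.Agent.Lib.Modules

variable {X S : Scheme.{u}} (f : X ⟶ S) (n : ℕ)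

theorem flat_pr1 (hP : FlatMod.IsFlat (P f n)) : Flat (pr1 f n) := by
  rw [Flat.iff_flat_stalkMap]
  intro z
  letI := ((pr1 f n).stalkMap z).hom.toAlgebra
  show Module.Flat (X.presheaf.stalk (pr1 f n z)) ((nbhd f n).presheaf.stalk z)
  let N : (nbhd f n).Modules := Coh.structureModule (nbhd f n)
  let M : (nbhd f n).Modules :=
    (Scheme.Modules.pullback (pr2 f n)).obj (Coh.structureModule X)
  letI : Module (X.presheaf.stalk (pr1 f n z)) (M.presheaf.stalk z) :=
    Module.compHom _ ((pr1 f n).stalkMap z).hom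
  haveI : IsIso (DerivedOX.PullbackStalk.pushStalkMap (pr1 f n) z M) :=
    TopCat.Presheaf.stalkPushforward.stalkPushforward_iso_of_isInducing _
      (isEmbedding_pr1 f n).isInducing M.presheaf z
  let e₁ : (P f n).presheaf.stalk (pr1 f n z) ≃ₗ[X.presheaf.stalk (pr1 f n z)]
      M.presheaf.stalk z :=
    LinearEquiv.ofBijective
      ({ toFun := fun a => DerivedOX.PullbackStalk.pushStalkMap (pr1 f n) z M a
         map_add' := fun a b => map_add _ a b
         map_smul' := fun c a => DerivedOX.PullbackStalk.pushStalkMap_smul (pr1 f n) z M c a } :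
        (P f n).presheaf.stalk (pr1 f n z) →ₗ[X.presheaf.stalk (pr1 f n z)] M.presheaf.stalk z)
      (ConcreteCategory.bijective_of_isIso (DerivedOX.PullbackStalk.pushStalkMap (pr1 f n) z M))
  haveI : Module.Flat (X.presheaf.stalk (pr1 f n z)) ((P f n).presheaf.stalk (pr1 f n z)) :=
    hP (pr1 f n z)
  haveI : Module.Flat (X.presheaf.stalk (pr1 f n z)) (M.presheaf.stalk z) :=
    Module.Flat.of_linearEquiv e₁.symm
  -- identify the stalk of the pull-back with the local ring
  letI := ((pr2 f n).stalkMap z).hom.toAlgebra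
  let c : TensorProduct (X.presheaf.stalk (pr2 f n z)) ((nbhd f n).presheaf.stalk z)
      ((Coh.structureModule X).presheaf.stalk (pr2 f n z)) ≃ₗ[(nbhd f n).presheaf.stalk z]
        M.presheaf.stalk z :=
    (asIso ((DerivedOX.PullbackStalk.comparison (pr2 f n) z).app (Coh.structureModule X))).toLinearEquiv
  let u := AssPt.Basic.unitStalkEquiv (X := X) (pr2 f n z)
  let w : (nbhd f n).presheaf.stalk z ≃ₗ[(nbhd f n).presheaf.stalk z] M.presheaf.stalk z :=
    (TensorProduct.AlgebraTensorModule.rid (X.presheaf.stalk (pr2 f n z))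
      ((nbhd f n).presheaf.stalk z) ((nbhd f n).presheaf.stalk z)).symm.trans
      ((TensorProduct.AlgebraTensorModule.congr (LinearEquiv.refl _ _) u).trans c)
  exact Module.Flat.of_linearEquiv
    ({ w.toAddEquiv with map_smul' := fun a b => w.map_smul ((pr1 f n).stalkMap z a) b } :
      (nbhd f n).presheaf.stalk z ≃ₗ[X.presheaf.stalk (pr1 f n z)] M.presheaf.stalk z)

end Groth.Agent.Lib.PrinParts
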