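import Groth.Agent.Lib.PrinParts.Stalk
import Groth.Agent.Lib.DerivedOX.PullbackStalk
import Groth.Agent.Lib.Modules.StalkModule

/-!
# The sections of `P^n(F)` are locally generated by the image of `d^n`
-/

universe u

open CategoryTheory CategoryTheory.Limits AlgebraicGeometry TopologicalSpace Opposite
open scoped TensorProduct

set_option linter.style.haveILetI false

namespace Groth.Agent.Lib.PrinParts

open PrinPart Groth.Agent.Lib.Modules

attribute [local instance] stalkAlg

variable {X S : Scheme.{u}} (f : X ⟶ S) (n : ℕ) (F : X.Modules)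

/-- The pull-back of `F` to the neighbourhood of the diagonal. -/
noncomputable abbrev nbhdMod : (nbhd f n).Modules := (Scheme.Modules.pullback (pr2 f n)).obj F

/-- The algebra structure given by the second projection. -/
@[reducible] noncomputable def nbhdAlg (z : nbhd f n) :
    Algebra (X.presheaf.stalk (pr2 f n z)) ((nbhd f n).presheaf.stalk z) :=
  ((pr2 f n).stalkMap z).hom.toAlgebra

attribute [local instance] nbhdAlg

/-- The stalk of the pull-back. -/
noncomputable def compEquiv (z : nbhd f n) :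
    TensorProduct (X.presheaf.stalk (pr2 f n z)) ((nbhd f n).presheaf.stalk z)
      (F.presheaf.stalk (pr2 f n z)) ≃ₗ[(nbhd f n).presheaf.stalk z]
        (nbhdMod f n F).presheaf.stalk z :=
  (asIso ((DerivedOX.PullbackStalk.comparison (pr2 f n) z).app F)).toLinearEquiv

/-- `σ ⊗ t` in the stalk of the pull-back. -/
noncomputable def gen (z : nbhd f n) (σ : (nbhd f n).presheaf.stalk z)
    (t : F.presheaf.stalk (pr2 f n z)) : (nbhdMod f n F).presheaf.stalk z :=
  compEquiv f n F z (σ ⊗ₜ[X.presheaf.stalk (pr2 f n z)] t)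

variable {f n F} {z : nbhd f n}

theorem gen_add_left (σ σ' : (nbhd f n).presheaf.stalk z) (t : F.presheaf.stalk (pr2 f n z)) :
    gen f n F z (σ + σ') t = gen f n F z σ t + gen f n F z σ' t := by
  rw [gen, TensorProduct.add_tmul, map_add]; rfl

theorem gen_zero_left (t : F.presheaf.stalk (pr2 f n z)) : gen f n F z 0 t = 0 := by
  rw [gen, TensorProduct.zero_tmul, map_zero]

theorem gen_smul (ρ σ : (nbhd f n).presheaf.stalk z) (t : F.presheaf.stalk (pr2 f n z)) :
    gen f n F z (ρ * σ) t = ρ • gen f n F z σ t := by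
  rw [gen, gen, ← map_smul, TensorProduct.smul_tmul', smul_eq_mul]

theorem gen_smul_right (σ : (nbhd f n).presheaf.stalk z) (c : X.presheaf.stalk (pr2 f n z))
    (t : F.presheaf.stalk (pr2 f n z)) :
    gen f n F z σ (c • t) = gen f n F z (lam2 f n z c * σ) t := by
  rw [gen, gen, ← TensorProduct.smul_tmul, Algebra.smul_def]
  rfl

theorem gen_induction {P : (nbhdMod f n F).presheaf.stalk z → Prop} (h0 : P 0)
    (hadd : ∀ a b, P a → P b → P (a + b)) (hgen : ∀ σ t, P (gen f n F z σ t))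
    (v : (nbhdMod f n F).presheaf.stalk z) : P v := by
  obtain ⟨w, rfl⟩ := (compEquiv f n F z).surjective v
  induction w using TensorProduct.induction_on with
  | zero => rwa [map_zero]
  | tmul σ t => exact hgen σ t
  | add a b ha hb => rw [map_add]; exact hadd _ _ ha hb

theorem gen_one_germ {U : X.Opens} (hz : pr2 f n z ∈ U) (t : Γ(F, U)) :
    gen f n F z 1 (F.presheaf.germ U _ hz t) =
      (nbhdMod f n F).presheaf.germ (pr2 f n ⁻¹ᵁ U) z hz (OmegaSh.pullSect (pr2 f n) F U t) := by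
  refine Eq.trans ?_ ((congrArg _ (StalkModule.stalkMapₗ_germ
    ((Scheme.Modules.pullbackPushforwardAdjunction (pr2 f n)).unit.app F) hz t)).trans
    (DerivedOX.PullbackStalk.pushStalkMap_germ (pr2 f n) z (nbhdMod f n F) hz _))
  exact DerivedOX.PullbackStalk.comparison_one_tmul (pr2 f n) z F _

/-- The germ of a section of `P^n(F)`. -/
noncomputable def pgerm (z : nbhd f n) {U : X.Opens} (hz : pr2 f n z ∈ U)
    (m : Γ(PMod f n F, U)) : (nbhdMod f n F).presheaf.stalk z :=
  (nbhdMod f n F).presheaf.germ (pr1 f n ⁻¹ᵁ U) z (mem_pr1 f n hz) m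

theorem pgerm_add {U : X.Opens} (hz : pr2 f n z ∈ U) (m m' : Γ(PMod f n F, U)) :
    pgerm z hz (m + m') = pgerm z hz m + pgerm z hz m' := map_add _ m m'

theorem pgerm_zero {U : X.Opens} (hz : pr2 f n z ∈ U) :
    pgerm z hz (0 : Γ(PMod f n F, U)) = 0 := map_zero _

theorem pgerm_dP {U : X.Opens} (hz : pr2 f n z ∈ U) (t : Γ(F, U)) :
    pgerm z hz (dP f n F U t) = gen f n F z 1 (F.presheaf.germ U _ hz t) := by
  rw [gen_one_germ, pgerm, dP_apply]
  exact TopCat.Presheaf.germ_res_apply (nbhdMod f n F).presheaf _ z (mem_pr1 f n hz) _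

theorem pgerm_smul {U : X.Opens} (hz : pr2 f n z ∈ U) (a : Γ(X, U)) (m : Γ(PMod f n F, U)) :
    pgerm z hz (a • m) = lam1 f n z (X.presheaf.germ U _ hz a) • pgerm z hz m := by
  rw [lam1_germ]
  exact StalkModule.germ_smul (M := nbhdMod f n F) (mem_pr1 f n hz) ((pr1 f n).app U a) m

theorem pgerm_map {U U' : X.Opens} (h : U' ≤ U) (hz : pr2 f n z ∈ U') (m : Γ(PMod f n F, U)) :
    pgerm z hz ((PMod f n F).presheaf.map (homOfLE h).op m) = pgerm z (h hz) m :=
  TopCat.Presheaf.germ_res_apply (nbhdMod f n F).presheaf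
    (homOfLE ((pr1 f n).preimage_mono h)) z (mem_pr1 f n hz) m

theorem pgerm_ext {U : X.Opens} {m m' : Γ(PMod f n F, U)}
    (h : ∀ (z : nbhd f n) (hz : pr2 f n z ∈ U), pgerm z hz m = pgerm z hz m') : m = m' :=
  TopCat.Presheaf.section_ext ⟨(nbhdMod f n F).presheaf, (nbhdMod f n F).isSheaf⟩
    (pr1 f n ⁻¹ᵁ U) m m' fun w hw => h w ((preimage_pr1 f n U).le hw)

theorem exists_res_eq {U : X.Opens} (hz : pr2 f n z ∈ U) {m m' : Γ(PMod f n F, U)}
    (h : pgerm z hz m = pgerm z hz m') :
    ∃ (U' : X.Opens) (hle : U' ≤ U), pr2 f n z ∈ U' ∧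
      (PMod f n F).presheaf.map (homOfLE hle).op m = (PMod f n F).presheaf.map (homOfLE hle).op m' := by
  obtain ⟨W', hzW', iA, iB, hres⟩ := TopCat.Presheaf.germ_eq (nbhdMod f n F).presheaf z
    (mem_pr1 f n hz) (mem_pr1 f n hz) m m' h
  refine ⟨U ⊓ toNbhd f n ⁻¹ᵁ W', inf_le_left, ⟨hz, ?_⟩, ?_⟩
  · show toNbhd f n (pr2 f n z) ∈ W'
    rwa [toNbhd_pr2_apply]
  · have hle : pr1 f n ⁻¹ᵁ (U ⊓ toNbhd f n ⁻¹ᵁ W') ≤ W' := pr1_preimage_le f n inf_le_right
    have e := congrArg ((nbhdMod f n F).presheaf.map (homOfLE hle).op) hres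
    rw [← ConcreteCategory.comp_apply, ← ConcreteCategory.comp_apply, ← Functor.map_comp,
      ← Functor.map_comp] at e
    exact e

variable (f n F) in
/-- The submodule generated by the `d^n t`. -/
noncomputable abbrev dSpan (U : X.Opens) : Submodule Γ(X, U) Γ(PMod f n F, U) :=
  Submodule.span Γ(X, U) (Set.range (dP f n F U))

theorem dSpan_map {U U' : X.Opens} (h : U' ≤ U) {m : Γ(PMod f n F, U)} (hm : m ∈ dSpan f n F U) :
    (PMod f n F).presheaf.map (homOfLE h).op m ∈ dSpan f n F U' := by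
  induction hm using Submodule.span_induction with
  | mem m hm =>
    obtain ⟨t, rfl⟩ := hm
    rw [← dP_map]
    exact Submodule.subset_span ⟨_, rfl⟩
  | zero => rw [map_zero]; exact zero_mem _
  | add a b _ _ ha hb => rw [map_add]; exact add_mem ha hb
  | smul r a _ ha =>
    rw [Scheme.Modules.map_smul]
    exact Submodule.smul_mem _ _ ha

theorem exists_span_pgerm (v : (nbhdMod f n F).presheaf.stalk z) :
    ∃ (U : X.Opens) (hz : pr2 f n z ∈ U), ∃ m ∈ dSpan f n F U, pgerm z hz m = v := by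
  refine gen_induction (P := fun v => ∃ (U : X.Opens) (hz : pr2 f n z ∈ U),
    ∃ m ∈ dSpan f n F U, pgerm z hz m = v) ⟨⊤, trivial, 0, zero_mem _, pgerm_zero _⟩ ?_ ?_ v
  · rintro a b ⟨U, hz, m, hm, rfl⟩ ⟨U', hz', m', hm', rfl⟩
    refine ⟨U ⊓ U', ⟨hz, hz'⟩, _, add_mem (dSpan_map inf_le_left hm) (dSpan_map inf_le_right hm'),
      ?_⟩
    rw [pgerm_add, pgerm_map, pgerm_map]
  · intro σ t
    obtain ⟨τ, rfl⟩ := phi_surjective f n z σ
    induction τ using TensorProduct.induction_on with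
    | zero => exact ⟨⊤, trivial, 0, zero_mem _, by rw [map_zero, gen_zero_left, pgerm_zero]⟩
    | add a b ha hb =>
      obtain ⟨U, hz, m, hm, e⟩ := ha
      obtain ⟨U', hz', m', hm', e'⟩ := hb
      refine ⟨U ⊓ U', ⟨hz, hz'⟩, _,
        add_mem (dSpan_map inf_le_left hm) (dSpan_map inf_le_right hm'), ?_⟩
      rw [pgerm_add, pgerm_map, pgerm_map, e, e', map_add, gen_add_left]
    | tmul a b =>
      obtain ⟨U, hU, a, w, rfl, hw⟩ := StalkModule.exists_germ_eq₂ a (b • t)
      refine ⟨U, hU, a • dP f n F U w, Submodule.smul_mem _ _ (Submodule.subset_span ⟨w, rfl⟩), ?_⟩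
      rw [pgerm_smul, pgerm_dP, hw, gen_smul_right, mul_one, ← gen_smul, phi_tmul]

variable (f n F) in
/-- Every section of `P^n(F)` is locally a combination of the `d^n t`. -/
theorem exists_dSpan {U : X.Opens} (m : Γ(PMod f n F, U)) {x : X} (hx : x ∈ U) :
    ∃ (U' : X.Opens) (hle : U' ≤ U), x ∈ U' ∧
      (PMod f n F).presheaf.map (homOfLE hle).op m ∈ dSpan f n F U' := by
  obtain ⟨z, rfl⟩ := exists_pr2_eq f n x
  obtain ⟨V, hzV, m', hm', e⟩ := exists_span_pgerm (pgerm z hx m)
  have h : pgerm z (U := U ⊓ V) ⟨hx, hzV⟩ ((PMod f n F).presheaf.map (homOfLE inf_le_left).op m) =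
      pgerm z (U := U ⊓ V) ⟨hx, hzV⟩ ((PMod f n F).presheaf.map (homOfLE inf_le_right).op m') := by
    rw [pgerm_map, pgerm_map, e]
  obtain ⟨U', hle, hzU', heq⟩ := exists_res_eq _ h
  refine ⟨U', hle.trans inf_le_left, hzU', ?_⟩
  rw [← ConcreteCategory.comp_apply, ← ConcreteCategory.comp_apply, ← Functor.map_comp,
    ← Functor.map_comp] at heq
  rw [Subsingleton.elim (homOfLE (hle.trans inf_le_left)).op
    ((homOfLE (inf_le_left : U ⊓ V ≤ U)).op ≫ (homOfLE hle).op), heq,
    Subsingleton.elim ((homOfLE (inf_le_right : U ⊓ V ≤ V)).op ≫ (homOfLE hle).op)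
      (homOfLE (hle.trans inf_le_right)).op]
  exact dSpan_map _ hm'

theorem hom_ext_of_dP {G : X.Modules} (a b : PMod f n F ⟶ G)
    (h : ∀ (U : X.Opens) (t : Γ(F, U)), a.app U (dP f n F U t) = b.app U (dP f n F U t)) :
    a = b := by
  refine Scheme.Modules.hom_ext _ _ fun U => ?_
  ext m
  refine TopCat.Presheaf.section_ext ⟨G.presheaf, G.isSheaf⟩ U _ _ fun x hx => ?_
  obtain ⟨U', hle, hxU', hm⟩ := exists_dSpan f n F m hx
  have key : ∀ m' ∈ dSpan f n F U', a.app U' m' = b.app U' m' := by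
    intro m' hm'
    induction hm' using Submodule.span_induction with
    | mem m' h' => obtain ⟨t, rfl⟩ := h'; exact h U' t
    | zero => rw [map_zero, map_zero]
    | add p q _ _ hp hq => rw [map_add, map_add, hp, hq]
    | smul r p _ hp => rw [Scheme.Modules.Hom.app_smul, Scheme.Modules.Hom.app_smul, hp]
  have e := key _ hm
  have na := ConcreteCategory.congr_hom (a.mapPresheaf.naturality (homOfLE hle).op) m
  have nb := ConcreteCategory.congr_hom (b.mapPresheaf.naturality (homOfLE hle).op) m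
  have e' : G.presheaf.map (homOfLE hle).op (a.app U m) =
      G.presheaf.map (homOfLE hle).op (b.app U m) := (na.symm.trans e).trans nb
  have := congrArg (G.presheaf.germ U' x hxU') e'
  rwa [TopCat.Presheaf.germ_res_apply, TopCat.Presheaf.germ_res_apply] at this

end Groth.Agent.Lib.PrinParts
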