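import Groth.Agent.Lib.PrinParts.Stalk
import Groth.Prelude.Def_PicLoc

/-!
# The sections of `P^n` as the ring of functions on the neighbourhood of the diagonal
-/

universe u

open CategoryTheory CategoryTheory.Limits AlgebraicGeometry TopologicalSpace Opposite
open scoped TensorProduct

set_option linter.style.haveILetI false

namespace Groth.Agent.Lib.PrinParts

open PrinPart

variable {X S : Scheme.{u}} (f : X ⟶ S) (n : ℕ)

/-- Sections of `P^n` over `U` are the functions on the part of the neighbourhood over `U`. -/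
noncomputable def toRing (U : X.Opens) : Γ(P f n, U) →+ Γ(nbhd f n, pr1 f n ⁻¹ᵁ U) :=
  (OmegaSh.fnSect (nbhd f n) (pr1 f n ⁻¹ᵁ U)).comp
    ((PicLoc.pullbackStructureIso (pr2 f n)).hom.app (pr1 f n ⁻¹ᵁ U)).hom

theorem toRing_bijective (U : X.Opens) : Function.Bijective (toRing f n U) :=
  Function.Bijective.comp (f := (PicLoc.pullbackStructureIso (pr2 f n)).hom.app (pr1 f n ⁻¹ᵁ U))
    (g := OmegaSh.fnSect (nbhd f n) (pr1 f n ⁻¹ᵁ U))
    ⟨fun _ _ h => h, fun x => ⟨x, rfl⟩⟩ (ConcreteCategory.bijective_of_isIso _)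

theorem toRing_smul (U : X.Opens) (a : Γ(X, U)) (m : Γ(P f n, U)) :
    toRing f n U (a • m) = (pr1 f n).app U a * toRing f n U m :=
  congrArg (OmegaSh.fnSect _ _) (Scheme.Modules.Hom.app_smul
    (PicLoc.pullbackStructureIso (pr2 f n)).hom ((pr1 f n).app U a) m)

theorem toRing_dn (U : X.Opens) (b : Γ(X, U)) :
    toRing f n U (dn f n U b) =
      (nbhd f n).presheaf.map (homOfLE (preimage_pr1 f n U).le).op ((pr2 f n).app U b) := by
  let ψ := (PicLoc.pullbackStructureIso (pr2 f n)).hom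
  have h : (Scheme.Modules.pullbackPushforwardAdjunction (pr2 f n)).unit.app (Coh.structureModule X) ≫
      (Scheme.Modules.pushforward (pr2 f n)).map ψ =
        SheafOfModules.unitToPushforwardObjUnit (pr2 f n).toRingCatSheafHom := by
    have := SheafOfModules.pullbackPushforwardAdjunction_homEquiv_pullbackObjUnitToUnit
      (pr2 f n).toRingCatSheafHom
    exact (Adjunction.homEquiv_unit _ _ _ _).symm.trans this
  have h1 : ψ.app (pr2 f n ⁻¹ᵁ U) (OmegaSh.pullSect (pr2 f n) (Coh.structureModule X) U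
      (OmegaSh.strSect X U b)) = OmegaSh.strSect _ _ ((pr2 f n).app U b) :=
    congr(Scheme.Modules.Hom.app $h U (OmegaSh.strSect X U b))
  have h2 := ConcreteCategory.congr_hom (ψ.mapPresheaf.naturality
    (homOfLE (preimage_pr1 f n U).le).op)
    (OmegaSh.pullSect (pr2 f n) (Coh.structureModule X) U (OmegaSh.strSect X U b))
  refine (congrArg (OmegaSh.fnSect _ _) h2).trans ?_
  exact congrArg (fun s => OmegaSh.fnSect _ _
    ((Coh.structureModule (nbhd f n)).presheaf.map (homOfLE (preimage_pr1 f n U).le).op s)) h1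

/-- Principal parts on an affine chart. -/
theorem surjective_and_ker_of_chart {U : X.Opens} {V : S.Opens} (hU : IsAffineOpen U)
    (hV : IsAffineOpen V) (e : U ≤ f ⁻¹ᵁ V) :
    letI := (f.appLE V U e).hom.toAlgebra
    ∀ ψ : Γ(X, U) ⊗[Γ(S, V)] Γ(X, U) →+ Γ(P f n, U),
      (∀ b b', ψ (b ⊗ₜ b') = b • dn f n U b') →
      Function.Surjective ψ ∧
        ψ.ker = (KaehlerDifferential.ideal Γ(S, V) Γ(X, U) ^ (n + 1)).toAddSubgroup := by
  letI := (f.appLE V U e).hom.toAlgebra
  intro ψ hψ
  obtain ⟨χ, hs, hk, h1, h2⟩ := exists_chartHom f hU hV e n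
  have key : ∀ τ, toRing f n U (ψ τ) = χ τ := by
    intro τ
    induction τ using TensorProduct.induction_on with
    | zero => rw [map_zero, map_zero, map_zero]
    | add x y hx hy => rw [map_add, map_add, map_add, hx, hy]
    | tmul a b =>
      rw [hψ, toRing_smul, toRing_dn, show a ⊗ₜ[Γ(S, V)] b =
        (a ⊗ₜ[Γ(S, V)] (1 : Γ(X, U))) * ((1 : Γ(X, U)) ⊗ₜ[Γ(S, V)] b) by
        rw [Algebra.TensorProduct.tmul_mul_tmul, mul_one, one_mul], map_mul, h1, h2]
  constructor
  · intro m
    obtain ⟨τ, hτ⟩ := hs (toRing f n U m)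
    exact ⟨τ, (toRing_bijective f n U).1 ((key τ).trans hτ)⟩
  · ext τ
    rw [AddMonoidHom.mem_ker, Submodule.mem_toAddSubgroup, ← hk, RingHom.mem_ker, ← key,
      map_eq_zero_iff _ (toRing_bijective f n U).1]

end Groth.Agent.Lib.PrinParts
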