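import Groth.Prelude.Def_OmegaPn
import Groth.Agent.Lib.Kaehler.DiagIdeal
import Mathlib.RingTheory.Kaehler.Basic

/-!
# The rings of sections of the infinitesimal neighbourhoods of the diagonal over affine charts
-/

universe u

open CategoryTheory CategoryTheory.Limits AlgebraicGeometry TopologicalSpace Opposite
open scoped TensorProduct

namespace Groth.Agent.Lib.PrinParts

open OmegaSh PrinPart Kaehler.DiagIdeal

variable {X S : Scheme.{u}} (f : X ⟶ S) {U : X.Opens} {V : S.Opens}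

theorem preimage_diagNbhd (U : X.Opens) : pullback.diagonal f ⁻¹ᵁ diagNbhd f U = U := by
  refine le_antisymm (fun x hx => ?_) (le_preimage_diagNbhd f U)
  have h1 : pullback.fst f f (pullback.diagonal f x) ∈ U := hx.1
  rwa [← Scheme.Hom.comp_apply, pullback.diagonal_fst] at h1

theorem diagNbhd_le_coborderRange (hU : IsAffineOpen U) (hV : IsAffineOpen V) (e : U ≤ f ⁻¹ᵁ V) :
    diagNbhd f U ≤ (pullback.diagonal f).coborderRange := by
  intro p hp
  show p ∈ coborder (Set.range (pullback.diagonal f))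
  rw [coborder_eq_union_closure_compl]
  by_contra hcon
  simp only [Set.mem_union, Set.mem_compl_iff, not_or, not_not] at hcon
  haveI : IsAffine U.toScheme := hU
  haveI : IsAffine (diagNbhd f U).toScheme := isAffineOpen_diagNbhd f hU hV e
  let g := (pullback.diagonal f).resLE (diagNbhd f U) U (le_preimage_diagNbhd f U)
  let q := (pullback.fst f f).resLE U (diagNbhd f U) inf_le_left
  have hgq : g ≫ q = 𝟙 _ := by
    rw [← cancel_mono U.ι, Category.assoc, Scheme.Hom.resLE_comp_ι,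
      Scheme.Hom.resLE_comp_ι_assoc, pullback.diagonal_fst, Category.comp_id, Category.id_comp]
  haveI : IsClosedImmersion (g ≫ q) := by rw [hgq]; infer_instance
  haveI : IsClosedImmersion g := IsClosedImmersion.of_comp g q
  have hcl : IsClosed (Set.range g) := g.isClosedEmbedding.isClosed_range
  have hmem : (⟨p, hp⟩ : (diagNbhd f U).toScheme) ∈ closure (Set.range g) := by
    refine (closure_subtype (x := (⟨p, hp⟩ : ((diagNbhd f U : (pullback f f).Opens) : Set _)))
      (s := Set.range g)).mpr ?_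
    refine closure_mono ?_ ((diagNbhd f U).2.inter_closure ⟨hp, hcon.2⟩)
    rintro _ ⟨hyD, x, rfl⟩
    have hxU : x ∈ U := (preimage_diagNbhd f U).le hyD
    refine ⟨g ⟨x, hxU⟩, ⟨_, rfl⟩, ?_⟩
    exact (Scheme.Hom.comp_apply g (diagNbhd f U).ι ⟨x, hxU⟩).symm.trans
      (congrArg (fun k : U.toScheme ⟶ pullback f f => k ⟨x, hxU⟩)
        (Scheme.Hom.resLE_comp_ι (pullback.diagonal f) (le_preimage_diagNbhd f U)))
  rw [hcl.closure_eq] at hmem
  obtain ⟨z, hz⟩ := hmem
  refine hcon.1 ⟨U.ι z, ?_⟩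
  rw [← Scheme.Hom.comp_apply, ← Scheme.Hom.resLE_comp_ι (pullback.diagonal f)
    (le_preimage_diagNbhd f U), Scheme.Hom.comp_apply]
  exact congrArg Subtype.val hz

theorem preimage_nbhdι_diagNbhd (n : ℕ) (U : X.Opens) :
    nbhdι f n ⁻¹ᵁ diagNbhd f U = pr1 f n ⁻¹ᵁ U := by
  rw [show nbhdι f n ⁻¹ᵁ diagNbhd f U = pr1 f n ⁻¹ᵁ U ⊓ pr2 f n ⁻¹ᵁ U from rfl,
    ← preimage_pr1, inf_idem]

/-- The chart map `Γ(U) ⊗ Γ(U) → Γ(P^n, U)`. -/
theorem exists_chartHom (hU : IsAffineOpen U) (hV : IsAffineOpen V) (e : U ≤ f ⁻¹ᵁ V) (n : ℕ) :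
    letI := (f.appLE V U e).hom.toAlgebra
    ∃ ψ : Γ(X, U) ⊗[Γ(S, V)] Γ(X, U) →+* Γ(nbhd f n, pr1 f n ⁻¹ᵁ U),
      Function.Surjective ψ ∧
      RingHom.ker ψ = KaehlerDifferential.ideal Γ(S, V) Γ(X, U) ^ (n + 1) ∧
      (∀ a, ψ (a ⊗ₜ 1) = (pr1 f n).app U a) ∧
      ∀ b, ψ (1 ⊗ₜ b) = (nbhd f n).presheaf.map (homOfLE (preimage_pr1 f n U).le).op
        ((pr2 f n).app U b) := by
  letI := (f.appLE V U e).hom.toAlgebra
  set D := diagNbhd f U with hDdef
  set C := (pullback.diagonal f).coborderRange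
  have hD := isAffineOpen_diagNbhd f hU hV e
  have hDC : D ≤ C.ι.opensRange := by
    rw [Scheme.Opens.opensRange_ι]; exact diagNbhd_le_coborderRange f hU hV e
  let W : C.toScheme.affineOpens := ⟨C.ι ⁻¹ᵁ D, hD.preimage_of_isOpenImmersion C.ι hDC⟩
  haveI : IsIso (C.ι.app D) := C.ι.isIso_app D hDC
  have H := IsPullback.of_hasPullback f f
  have hp := (isIso_pushoutSection_iff H (UY := D) e e rfl).mp
    (isIso_pushoutSection_of_isAffineOpen H e e rfl hV hU hU)
  let ε := (CommRingCat.isPushout_tensorProduct Γ(S, V) Γ(X, U) Γ(X, U)).isoIsPushout _ _ hp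
  have hl : ∀ a : Γ(X, U), ε.hom (a ⊗ₜ[Γ(S, V)] (1 : Γ(X, U))) =
      (pullback.fst f f).appLE U D inf_le_left a := fun a =>
    congr($((CommRingCat.isPushout_tensorProduct Γ(S, V) Γ(X, U) Γ(X, U)).inl_isoIsPushout_hom _ _ hp) a)
  have hr : ∀ a : Γ(X, U), ε.hom ((1 : Γ(X, U)) ⊗ₜ[Γ(S, V)] a) =
      (pullback.snd f f).appLE U D inf_le_right a := fun a =>
    congr($((CommRingCat.isPushout_tensorProduct Γ(S, V) Γ(X, U) Γ(X, U)).inr_isoIsPushout_hom _ _ hp) a)
  let E : Γ(X, U) ⊗[Γ(S, V)] Γ(X, U) ≃+* Γ(C.toScheme, W.1) :=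
    ε.commRingCatIsoToRingEquiv.trans (asIso (C.ι.app D)).commRingCatIsoToRingEquiv
  let r : Γ(nbhd f n, nbhdι f n ⁻¹ᵁ D) →+* Γ(nbhd f n, pr1 f n ⁻¹ᵁ U) :=
    ((nbhd f n).presheaf.map (homOfLE (preimage_nbhdι_diagNbhd f n U).ge).op).hom
  have hrb : Function.Bijective r := by
    haveI : IsIso (homOfLE (preimage_nbhdι_diagNbhd f n U).ge) :=
      ⟨homOfLE (preimage_nbhdι_diagNbhd f n U).le, Subsingleton.elim _ _, Subsingleton.elim _ _⟩
    exact ConcreteCategory.bijective_of_isIso _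
  let ψ : Γ(X, U) ⊗[Γ(S, V)] Γ(X, U) →+* Γ(nbhd f n, pr1 f n ⁻¹ᵁ U) :=
    (r.comp ((infNbhdι (diagCl f) n).app W.1).hom).comp E.toRingHom
  refine ⟨ψ, ?_, ?_, ?_, ?_⟩
  · exact hrb.2.comp (((diagCl f).ker ^ (n + 1)).subschemeι_app_surjective W |>.comp E.surjective)
  · have hk : RingHom.ker (((infNbhdι (diagCl f) n).app W.1).hom) =
        ((diagCl f).ker.ideal W) ^ (n + 1) := by
      rw [← Pi.pow_apply, ← Scheme.IdealSheafData.ideal_pow]
      exact ((diagCl f).ker ^ (n + 1)).ker_subschemeι_app W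
    have hI : Ideal.comap E.toRingHom ((diagCl f).ker.ideal W) =
        KaehlerDifferential.ideal Γ(S, V) Γ(X, U) := by
      rw [Scheme.Hom.ker_apply]
      ext τ
      simp only [Ideal.mem_comap, RingHom.mem_ker]
      have e2 : diagRes f U (ε.hom τ) = Algebra.TensorProduct.lmul' Γ(S, V) τ := by
        induction τ using TensorProduct.induction_on with
        | zero => simp
        | add x y hx hy =>
          refine (congrArg (diagRes f U) (map_add ε.hom.hom x y)).trans ?_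
          rw [map_add, map_add]
          exact congrArg₂ (· + ·) hx hy
        | tmul a b =>
          rw [show (a ⊗ₜ[Γ(S, V)] b) = (a ⊗ₜ[Γ(S, V)] (1 : Γ(X, U))) *
              ((1 : Γ(X, U)) ⊗ₜ[Γ(S, V)] b) by
            rw [Algebra.TensorProduct.tmul_mul_tmul, mul_one, one_mul]]
          rw [map_mul, map_mul, map_mul, hl, hr, diagRes_fst, diagRes_snd]
          simp
      have e1 : ((diagCl f).app W.1).hom (E τ) =
          ((diagCl f ≫ C.ι).app D).hom (ε.hom τ) := rfl
      have hinj : Function.Injective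
          (X.presheaf.map (homOfLE (le_preimage_diagNbhd f U)).op) := by
        haveI : IsIso (homOfLE (le_preimage_diagNbhd f U)) :=
          ⟨homOfLE (preimage_diagNbhd f U).le, Subsingleton.elim _ _, Subsingleton.elim _ _⟩
        exact (ConcreteCategory.bijective_of_isIso _).1
      change ((diagCl f).app W.1).hom (E τ) = 0 ↔ Algebra.TensorProduct.lmul' Γ(S, V) τ = 0
      rw [e1, ← e2]
      have e3 := Scheme.Hom.congr_app (pullback.diagonal f).liftCoborder_ι D
      rw [e3]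
      change X.presheaf.map _ ((pullback.diagonal f).app D (ε.hom τ)) = 0 ↔
        X.presheaf.map _ ((pullback.diagonal f).app D (ε.hom τ)) = 0
      rw [map_eq_zero_iff _ hinj, map_eq_zero_iff _ (ConcreteCategory.bijective_of_isIso _).1]
    rw [show RingHom.ker ψ = Ideal.comap E.toRingHom
      (RingHom.ker (r.comp ((infNbhdι (diagCl f) n).app W.1).hom)) from rfl,
      RingHom.ker_comp_of_injective _ hrb.1]
    refine (congrArg (Ideal.comap E.toRingHom) hk).trans ?_
    rw [← hI]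
    show Ideal.comap E (_ ^ (n + 1)) = Ideal.comap E _ ^ (n + 1)
    rw [← Ideal.map_symm E, ← Ideal.map_symm E, Ideal.map_pow]
  · intro a
    show r ((infNbhdι (diagCl f) n).app W.1 (C.ι.app D (ε.hom (a ⊗ₜ[Γ(S, V)] 1)))) = _
    rw [hl]
    show ((pullback.fst f f).appLE U D inf_le_left ≫ (nbhdι f n).app D ≫
      (nbhd f n).presheaf.map _) a = _
    rw [← Scheme.Hom.appLE, Scheme.Hom.appLE_comp_appLE, Scheme.Hom.app_eq_appLE]
    rfl
  · intro b
    show r ((infNbhdι (diagCl f) n).app W.1 (C.ι.app D (ε.hom (1 ⊗ₜ[Γ(S, V)] b)))) = _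
    rw [hr]
    show ((pullback.snd f f).appLE U D inf_le_right ≫ (nbhdι f n).app D ≫
      (nbhd f n).presheaf.map _) b = ((pr2 f n).app U ≫ (nbhd f n).presheaf.map _) b
    rw [← Scheme.Hom.appLE, Scheme.Hom.appLE_comp_appLE]
    rfl

end Groth.Agent.Lib.PrinParts
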