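import Groth.Agent.Lib.PrinParts.Alt
import Groth.Agent.Lib.Kaehler.DOmega

/-!
# `P^1 = O ⊕ Ω`
-/

universe u

open CategoryTheory CategoryTheory.Limits AlgebraicGeometry TopologicalSpace Opposite

set_option linter.style.haveILetI false

namespace Groth.Agent.Lib.PrinParts

open PrinPart OmegaSh

variable {X S : Scheme.{u}} (f : X ⟶ S)

theorem der_app_map' {G : X.Modules} (d : Der f G) {U V : X.Opens} (i : V ⟶ U) (s : Γ(X, U)) :
    d.app V (X.presheaf.map i.op s) = G.presheaf.map i.op (d.app U s) := d.d_map i.op s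

theorem der_app_mul {G : X.Modules} (d : Der f G) (U : X.Opens) (a b : Γ(X, U)) :
    d.app U (a * b) = a • d.app U b + b • d.app U a := d.d_mul a b

theorem der_app_one {G : X.Modules} (d : Der f G) (U : X.Opens) : d.app U 1 = 0 := d.d_one (op U)

theorem der_app_base {G : X.Modules} (d : Der f G) (V : S.Opens) (U : X.Opens) (hU : U ≤ f ⁻¹ᵁ V)
    (s : Γ(S, V)) : d.app U (X.presheaf.map (homOfLE hU).op (f.app V s)) = 0 := by
  rw [der_app_map', show d.app (f ⁻¹ᵁ V) (f.app V s) = 0 from d.d_app (X := op V) s, map_zero]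

/-- A linear map plus a derivation, as a map of sheaves of groups. -/
noncomputable def linAddDer {G : X.Modules} (p : Coh.structureModule X ⟶ G) (d : Der f G) :
    (Coh.structureModule X).presheaf ⟶ G.presheaf where
  app U := AddCommGrpCat.ofHom ((p.app U.unop).hom + (d.app U.unop).comp (fnSect X U.unop))
  naturality U V i := by
    ext s
    show p.app V.unop ((Coh.structureModule X).presheaf.map i s) +
      d.app V.unop (fnSect X V.unop ((Coh.structureModule X).presheaf.map i s)) =
      G.presheaf.map i (p.app U.unop s + d.app U.unop (fnSect X U.unop s))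
    rw [map_add]
    exact congrArg₂ (· + ·) (ConcreteCategory.congr_hom (p.mapPresheaf.naturality i) s)
      (der_app_map' f d i.unop (fnSect X U.unop s))

theorem linAddDer_app {G : X.Modules} (p : Coh.structureModule X ⟶ G) (d : Der f G) (U : X.Opens)
    (s : Γ(X, U)) :
    (linAddDer f p d).app (op U) (strSect X U s) = p.app U (strSect X U s) + d.app U s := rfl

theorem isDiffOpLE_linAddDer {G : X.Modules} (p : Coh.structureModule X ⟶ G) (d : Der f G) :
    IsDiffOpLE f (Coh.structureModule X) G 1 (linAddDer f p d) := by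
  have hl : IsBaseLinear f (Coh.structureModule X) G (linAddDer f p d) := by
    intro V s U hU t
    obtain ⟨t, rfl⟩ : ∃ a : Γ(X, U), strSect X U a = t := ⟨fnSect X U t, rfl⟩
    rw [linAddDer_app, ← strSect_mul, linAddDer_app, strSect_mul, Scheme.Modules.Hom.app_smul,
      der_app_mul, der_app_base, smul_zero, add_zero, smul_add]
  refine (isDiffOpLE_iff_alt f 1 hl).mpr fun U a t => ?_
  obtain ⟨t, rfl⟩ : ∃ c : Γ(X, U), strSect X U c = t := ⟨fnSect X U t, rfl⟩
  rw [show (Finset.univ : Finset (Finset (Fin 2))) = {∅, {0}, {1}, {0, 1}} from by decide]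
  rw [Finset.sum_insert (by decide), Finset.sum_insert (by decide), Finset.sum_insert (by decide),
    Finset.sum_singleton]
  rw [show (∅ : Finset (Fin 2))ᶜ = {0, 1} from by decide,
    show ({0} : Finset (Fin 2))ᶜ = {1} from by decide,
    show ({1} : Finset (Fin 2))ᶜ = {0} from by decide,
    show ({0, 1} : Finset (Fin 2))ᶜ = ∅ from by decide]
  simp only [Finset.prod_empty, Finset.prod_singleton, Finset.card_empty, Finset.card_singleton,
    Finset.prod_pair (show (0 : Fin 2) ≠ 1 by decide), Finset.card_pair (show (0 : Fin 2) ≠ 1 by decide),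
    pow_zero, pow_one, one_smul, neg_smul, neg_one_sq]
  simp only [← strSect_mul, linAddDer_app]
  simp only [strSect_mul, Scheme.Modules.Hom.app_smul, der_app_mul, smul_add, smul_smul]
  module

theorem isIso_desc [QuasiSeparated f]
    (e : Coh.structureModule X ⟶ P f 1)
    (he : ∀ (U : X.Opens) (s : Γ(X, U)), e.app U (strSect X U s) = s • dn f 1 U 1)
    (ι : Omega.sheaf f ⟶ P f 1)
    (hι : ∀ (U : X.Opens) (s : Γ(X, U)),
      ι.app U ((dOmega f).app U s) = dn f 1 U s - s • dn f 1 U 1) :
    IsIso (coprod.desc e ι) := by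
  have hu := Kaehler.DOmega.isUniversal_dOmega f
  let C := Coh.structureModule X ⨿ Omega.sheaf f
  let inl : Coh.structureModule X ⟶ C := coprod.inl
  let inr : Omega.sheaf f ⟶ C := coprod.inr
  let δ : Der f C := (dOmega f).postcomp inr.val
  have hδ : ∀ U s, δ.app U s = inr.app U ((dOmega f).app U s) := fun _ _ => rfl
  obtain ⟨r, hr⟩ := isDiffOpLE_linAddDer f inl δ
  have hr' : ∀ (U : X.Opens) (s : Γ(X, U)),
      r.app U (dn f 1 U s) = inl.app U (strSect X U s) + δ.app U s := fun U s =>
    (hr U (strSect X U s)).symm.trans (linAddDer_app f inl δ U s)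
  have h1 : ∀ U, r.app U (dn f 1 U 1) = inl.app U (strSect X U 1) := fun U => by
    rw [hr', der_app_one, add_zero]
  refine ⟨r, ?_, ?_⟩
  · ext1
    · rw [coprod.inl_desc_assoc, Category.comp_id]
      refine Scheme.Modules.hom_ext _ _ fun U => ?_
      ext t
      show r.app U (e.app U (strSect X U (fnSect X U t))) = inl.app U t
      rw [he, Scheme.Modules.Hom.app_smul, h1, ← Scheme.Modules.Hom.app_smul, ← strSect_mul, mul_one]
      rfl
    · rw [coprod.inr_desc_assoc, Category.comp_id]
      refine Kaehler.Basic.universal_hom_ext hu fun U s => ?_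
      show r.app U (ι.app U _) = inr.app U _
      rw [hι, map_sub, Scheme.Modules.Hom.app_smul, hr', h1, hδ, ← Scheme.Modules.Hom.app_smul,
        ← strSect_mul, mul_one, add_sub_cancel_left]
  · refine hom_ext_of_dP _ _ fun U t => ?_
    show (coprod.desc e ι).app U (r.app U (dn f 1 U (fnSect X U t))) = dn f 1 U (fnSect X U t)
    rw [hr', map_add, hδ]
    show (inl ≫ coprod.desc e ι).app U _ + (inr ≫ coprod.desc e ι).app U _ = _
    rw [coprod.inl_desc, coprod.inr_desc, he, hι, add_sub_cancel]

end Groth.Agent.Lib.PrinParts
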