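import Groth.Agent.Lib.PrinParts.Sections

/-!
# The stalks of the structure sheaf of an infinitesimal neighbourhood of the diagonal
-/

universe u

open CategoryTheory CategoryTheory.Limits AlgebraicGeometry TopologicalSpace Opposite
open scoped TensorProduct

set_option linter.style.haveILetI false

namespace Groth.Agent.Lib.PrinParts

open PrinPart

/-- The map of tensor squares of a commutative square of rings. -/
theorem exists_tensorMap {A R B O : Type u} [CommRing A] [CommRing R] [CommRing B] [CommRing O]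
    [Algebra A B] [Algebra R O] (g : A →+* R) (h : B →+* O)
    (hc : ∀ a, algebraMap R O (g a) = h (algebraMap A B a)) :
    ∃ μ : B ⊗[A] B →+* O ⊗[R] O, (∀ a b, μ (a ⊗ₜ b) = h a ⊗ₜ h b) ∧
      Ideal.map μ (KaehlerDifferential.ideal A B) ≤ KaehlerDifferential.ideal R O := by
  letI : Algebra A (O ⊗[R] O) := ((algebraMap R (O ⊗[R] O)).comp g).toAlgebra
  let l : B →ₐ[A] O ⊗[R] O :=
    { ((Algebra.TensorProduct.includeLeft : O →ₐ[R] O ⊗[R] O).toRingHom).comp h with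
      commutes' := fun a => by
        show (h (algebraMap A B a)) ⊗ₜ[R] (1 : O) = algebraMap R (O ⊗[R] O) (g a)
        rw [← hc, Algebra.TensorProduct.algebraMap_apply] }
  let r : B →ₐ[A] O ⊗[R] O :=
    { ((Algebra.TensorProduct.includeRight : O →ₐ[R] O ⊗[R] O).toRingHom).comp h with
      commutes' := fun a => by
        show (1 : O) ⊗ₜ[R] (h (algebraMap A B a)) = algebraMap R (O ⊗[R] O) (g a)
        rw [← hc, Algebra.TensorProduct.algebraMap_apply']}
  let μ := (Algebra.TensorProduct.lift l r fun _ _ => Commute.all _ _).toRingHom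
  have hμ : ∀ a b, μ (a ⊗ₜ b) = h a ⊗ₜ h b := fun a b => by
    show Algebra.TensorProduct.lift l r _ (a ⊗ₜ b) = _
    rw [Algebra.TensorProduct.lift_tmul]
    show (h a ⊗ₜ[R] (1 : O)) * ((1 : O) ⊗ₜ[R] h b) = _
    rw [Algebra.TensorProduct.tmul_mul_tmul, mul_one, one_mul]
  refine ⟨μ, hμ, ?_⟩
  rw [← KaehlerDifferential.span_range_eq_ideal A B, Ideal.map_span, Ideal.span_le]
  rintro _ ⟨_, ⟨b, rfl⟩, rfl⟩
  simp only [map_sub, hμ, map_one]
  exact KaehlerDifferential.one_smul_sub_smul_one_mem_ideal R (h b)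

variable {X S : Scheme.{u}} (f : X ⟶ S) (n : ℕ)

theorem pr2_toNbhd (x : X) : pr2 f n (toNbhd f n x) = x := by
  rw [← Scheme.Hom.comp_apply, toNbhd_pr2]; rfl

theorem pr1_toNbhd (x : X) : pr1 f n (toNbhd f n x) = x := by
  rw [← Scheme.Hom.comp_apply, toNbhd_pr1]; rfl

theorem toNbhd_pr1_apply (z : nbhd f n) : toNbhd f n (pr1 f n z) = z := by
  obtain ⟨y, rfl⟩ := toInfNbhd_surjective (diagCl f) n z
  rw [pr1_toNbhd]

theorem toNbhd_pr2_apply (z : nbhd f n) : toNbhd f n (pr2 f n z) = z := by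
  rw [← pr1_apply, toNbhd_pr1_apply]

theorem exists_pr2_eq (x : X) : ∃ z : nbhd f n, pr2 f n z = x := ⟨_, pr2_toNbhd f n x⟩

theorem mem_pr1 {z : nbhd f n} {U : X.Opens} (h : pr2 f n z ∈ U) : z ∈ pr1 f n ⁻¹ᵁ U :=
  (preimage_pr1 f n U).ge h

theorem pr1_preimage_le {U : X.Opens} {O' : (nbhd f n).Opens} (h : U ≤ toNbhd f n ⁻¹ᵁ O') :
    pr1 f n ⁻¹ᵁ U ≤ O' := fun w hw => by
  rw [← toNbhd_pr1_apply f n w]
  exact h hw

theorem exists_chart_le (x : X) {W : X.Opens} (hx : x ∈ W) :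
    ∃ (V : S.Opens) (U : X.Opens), IsAffineOpen V ∧ IsAffineOpen U ∧ x ∈ U ∧ U ≤ W ∧
      U ≤ f ⁻¹ᵁ V := by
  obtain ⟨V, hV, hxV, -⟩ :=
    exists_isAffineOpen_mem_and_subset (show f x ∈ (⊤ : S.Opens) from trivial)
  obtain ⟨U, hU, hxU, hle⟩ :=
    exists_isAffineOpen_mem_and_subset (show x ∈ W ⊓ f ⁻¹ᵁ V from ⟨hx, hxV⟩)
  exact ⟨V, U, hV, hU, hxU, fun y hy => (hle hy).1, fun y hy => (hle hy).2⟩

/-- The algebra structure of a stalk over the stalk of the base. -/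
@[reducible] noncomputable def stalkAlg (x : X) :
    Algebra (S.presheaf.stalk (f x)) (X.presheaf.stalk x) :=
  (f.stalkMap x).hom.toAlgebra

attribute [local instance] stalkAlg

/-- The map of stalks of the second projection. -/
noncomputable def lam2 (z : nbhd f n) :
    X.presheaf.stalk (pr2 f n z) →+* (nbhd f n).presheaf.stalk z :=
  ((pr2 f n).stalkMap z).hom

theorem pr1_specializes (z : nbhd f n) : pr1 f n z ⤳ pr2 f n z :=
  specializes_of_eq (pr1_apply f n z)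

/-- The map of stalks of the first projection. -/
noncomputable def lam1 (z : nbhd f n) :
    X.presheaf.stalk (pr2 f n z) →+* (nbhd f n).presheaf.stalk z :=
  (X.presheaf.stalkSpecializes (pr1_specializes f n z) ≫ (pr1 f n).stalkMap z).hom

theorem lam2_germ {z : nbhd f n} {U : X.Opens} (hz : pr2 f n z ∈ U) (b : Γ(X, U)) :
    lam2 f n z (X.presheaf.germ U _ hz b) =
      (nbhd f n).presheaf.germ (pr2 f n ⁻¹ᵁ U) z hz ((pr2 f n).app U b) :=
  Scheme.Hom.germ_stalkMap_apply (pr2 f n) U z hz b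

theorem lam1_germ {z : nbhd f n} {U : X.Opens} (hz : pr2 f n z ∈ U) (b : Γ(X, U)) :
    lam1 f n z (X.presheaf.germ U _ hz b) =
      (nbhd f n).presheaf.germ (pr1 f n ⁻¹ᵁ U) z (mem_pr1 f n hz) ((pr1 f n).app U b) := by
  show ((pr1 f n).stalkMap z) (X.presheaf.stalkSpecializes (pr1_specializes f n z)
    (X.presheaf.germ U _ hz b)) = _
  rw [← CommRingCat.comp_apply (X.presheaf.germ U _ hz),
    TopCat.Presheaf.germ_stalkSpecializes X.presheaf hz (pr1_specializes f n z)]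
  exact Scheme.Hom.germ_stalkMap_apply (pr1 f n) U z _ b

theorem lam_base (z : nbhd f n) (s : S.presheaf.stalk (f (pr2 f n z))) :
    lam1 f n z (algebraMap (S.presheaf.stalk (f (pr2 f n z))) (X.presheaf.stalk (pr2 f n z)) s) =
      lam2 f n z (algebraMap (S.presheaf.stalk (f (pr2 f n z))) (X.presheaf.stalk (pr2 f n z)) s) := by
  obtain ⟨V, hV, s, rfl⟩ := TopCat.Presheaf.exists_germ_eq S.presheaf s
  have e : algebraMap (S.presheaf.stalk (f (pr2 f n z))) (X.presheaf.stalk (pr2 f n z))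
      (S.presheaf.germ V _ hV s) = X.presheaf.germ (f ⁻¹ᵁ V) _ hV (f.app V s) :=
    Scheme.Hom.germ_stalkMap_apply f V _ hV s
  rw [e, lam1_germ, lam2_germ]
  show (nbhd f n).presheaf.germ _ z _ ((pr1 f n ≫ f).app V s) =
    (nbhd f n).presheaf.germ _ z _ ((pr2 f n ≫ f).app V s)
  have e' := ConcreteCategory.congr_hom (Scheme.Hom.congr_app (pr1_comp f n) V) s
  rw [e']
  exact TopCat.Presheaf.germ_res_apply _ _ z _ _

/-- `O_x ⊗ O_x → O_{nbhd, z}`. -/
noncomputable def phi (z : nbhd f n) :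
    X.presheaf.stalk (pr2 f n z) ⊗[S.presheaf.stalk (f (pr2 f n z))] X.presheaf.stalk (pr2 f n z)
      →+* (nbhd f n).presheaf.stalk z :=
  letI : Algebra (S.presheaf.stalk (f (pr2 f n z))) ((nbhd f n).presheaf.stalk z) :=
    ((lam2 f n z).comp
      (algebraMap (S.presheaf.stalk (f (pr2 f n z))) (X.presheaf.stalk (pr2 f n z)))).toAlgebra
  (Algebra.TensorProduct.lift ({ lam1 f n z with commutes' := lam_base f n z } :
      X.presheaf.stalk (pr2 f n z) →ₐ[S.presheaf.stalk (f (pr2 f n z))] (nbhd f n).presheaf.stalk z)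
    ({ lam2 f n z with commutes' := fun _ => rfl } :
      X.presheaf.stalk (pr2 f n z) →ₐ[S.presheaf.stalk (f (pr2 f n z))] (nbhd f n).presheaf.stalk z)
    fun _ _ => Commute.all _ _).toRingHom

theorem phi_tmul (z : nbhd f n) (a b : X.presheaf.stalk (pr2 f n z)) :
    phi f n z (a ⊗ₜ b) = lam1 f n z a * lam2 f n z b := rfl

theorem phi_chart {z : nbhd f n} {U : X.Opens} {V : S.Opens} (e : U ≤ f ⁻¹ᵁ V)
    (hz : pr2 f n z ∈ U) :
    letI := (f.appLE V U e).hom.toAlgebra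
    ∀ (ψ : Γ(X, U) ⊗[Γ(S, V)] Γ(X, U) →+* Γ(nbhd f n, pr1 f n ⁻¹ᵁ U)),
      (∀ a, ψ (a ⊗ₜ 1) = (pr1 f n).app U a) →
      (∀ b, ψ (1 ⊗ₜ b) = (nbhd f n).presheaf.map (homOfLE (preimage_pr1 f n U).le).op
        ((pr2 f n).app U b)) →
      ∀ (μ : Γ(X, U) ⊗[Γ(S, V)] Γ(X, U) →+*
        X.presheaf.stalk (pr2 f n z) ⊗[S.presheaf.stalk (f (pr2 f n z))]
          X.presheaf.stalk (pr2 f n z)),
      (∀ a b, μ (a ⊗ₜ b) = X.presheaf.germ U _ hz a ⊗ₜ X.presheaf.germ U _ hz b) →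
      ∀ τ, phi f n z (μ τ) =
        (nbhd f n).presheaf.germ (pr1 f n ⁻¹ᵁ U) z (mem_pr1 f n hz) (ψ τ) := by
  letI := (f.appLE V U e).hom.toAlgebra
  intro ψ h1 h2 μ hμ τ
  induction τ using TensorProduct.induction_on with
  | zero => rw [map_zero, map_zero, map_zero, map_zero]
  | add x y hx hy => rw [map_add, map_add, map_add, map_add, hx, hy]
  | tmul a b =>
    rw [hμ, phi_tmul, lam1_germ, lam2_germ]
    rw [show a ⊗ₜ[Γ(S, V)] b = (a ⊗ₜ[Γ(S, V)] (1 : Γ(X, U))) * ((1 : Γ(X, U)) ⊗ₜ[Γ(S, V)] b) by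
      rw [Algebra.TensorProduct.tmul_mul_tmul, mul_one, one_mul], map_mul, map_mul, h1, h2]
    refine congrArg (_ * ·) ?_
    exact (TopCat.Presheaf.germ_res_apply (nbhd f n).presheaf
      (homOfLE (preimage_pr1 f n U).le) z (mem_pr1 f n hz) _).symm

theorem exists_mu {z : nbhd f n} {U : X.Opens} {V : S.Opens} (e : U ≤ f ⁻¹ᵁ V)
    (hz : pr2 f n z ∈ U) :
    letI := (f.appLE V U e).hom.toAlgebra
    ∃ μ : Γ(X, U) ⊗[Γ(S, V)] Γ(X, U) →+*
        X.presheaf.stalk (pr2 f n z) ⊗[S.presheaf.stalk (f (pr2 f n z))]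
          X.presheaf.stalk (pr2 f n z),
      (∀ a b, μ (a ⊗ₜ b) = X.presheaf.germ U _ hz a ⊗ₜ X.presheaf.germ U _ hz b) ∧
      Ideal.map μ (KaehlerDifferential.ideal Γ(S, V) Γ(X, U)) ≤
        KaehlerDifferential.ideal _ _ := by
  letI := (f.appLE V U e).hom.toAlgebra
  refine exists_tensorMap (S.presheaf.germ V _ (e hz)).hom (X.presheaf.germ U _ hz).hom fun s => ?_
  show f.stalkMap _ (S.presheaf.germ V _ (e hz) s) = X.presheaf.germ U _ hz (f.appLE V U e s)
  rw [Scheme.Hom.germ_stalkMap_apply, Scheme.Hom.appLE, CommRingCat.comp_apply]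
  exact (TopCat.Presheaf.germ_res_apply X.presheaf (homOfLE e) _ hz _).symm

/-- `τ` comes from the `k`-th power of the ideal on every small chart. -/
def Rep (z : nbhd f n) (k : ℕ)
    (τ : X.presheaf.stalk (pr2 f n z) ⊗[S.presheaf.stalk (f (pr2 f n z))]
      X.presheaf.stalk (pr2 f n z)) : Prop :=
  ∃ W : X.Opens, pr2 f n z ∈ W ∧ ∀ (U : X.Opens) (V : S.Opens) (e : U ≤ f ⁻¹ᵁ V)
    (hz : pr2 f n z ∈ U), U ≤ W →
    letI := (f.appLE V U e).hom.toAlgebra
    ∃ τU ∈ KaehlerDifferential.ideal Γ(S, V) Γ(X, U) ^ k,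
      ∀ μ : Γ(X, U) ⊗[Γ(S, V)] Γ(X, U) →+*
          X.presheaf.stalk (pr2 f n z) ⊗[S.presheaf.stalk (f (pr2 f n z))]
            X.presheaf.stalk (pr2 f n z),
        (∀ a b, μ (a ⊗ₜ b) = X.presheaf.germ U _ hz a ⊗ₜ X.presheaf.germ U _ hz b) → μ τU = τ

variable {f n} {z : nbhd f n} {k l : ℕ}

theorem Rep.zero : Rep f n z k 0 :=
  ⟨⊤, trivial, fun U V e hz _ => ⟨0, Submodule.zero_mem _, fun μ _ => map_zero μ⟩⟩

theorem Rep.add {τ τ'} (h : Rep f n z k τ) (h' : Rep f n z k τ') : Rep f n z k (τ + τ') := by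
  obtain ⟨W, hW, hrep⟩ := h
  obtain ⟨W', hW', hrep'⟩ := h'
  refine ⟨W ⊓ W', ⟨hW, hW'⟩, fun U V e hz hle => ?_⟩
  letI := (f.appLE V U e).hom.toAlgebra
  obtain ⟨a, ha, ha'⟩ := hrep U V e hz (hle.trans inf_le_left)
  obtain ⟨b, hb, hb'⟩ := hrep' U V e hz (hle.trans inf_le_right)
  exact ⟨a + b, Ideal.add_mem _ ha hb, fun μ hμ => by rw [map_add, ha' μ hμ, hb' μ hμ]⟩

theorem Rep.mul {τ τ'} (h : Rep f n z k τ) (h' : Rep f n z l τ') :
    Rep f n z (k + l) (τ * τ') := by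
  obtain ⟨W, hW, hrep⟩ := h
  obtain ⟨W', hW', hrep'⟩ := h'
  refine ⟨W ⊓ W', ⟨hW, hW'⟩, fun U V e hz hle => ?_⟩
  letI := (f.appLE V U e).hom.toAlgebra
  obtain ⟨a, ha, ha'⟩ := hrep U V e hz (hle.trans inf_le_left)
  obtain ⟨b, hb, hb'⟩ := hrep' U V e hz (hle.trans inf_le_right)
  exact ⟨a * b, pow_add (KaehlerDifferential.ideal Γ(S, V) Γ(X, U)) k l ▸ Ideal.mul_mem_mul ha hb,
    fun μ hμ => by rw [map_mul, ha' μ hμ, hb' μ hμ]⟩

theorem rep_zero (τ : X.presheaf.stalk (pr2 f n z) ⊗[S.presheaf.stalk (f (pr2 f n z))]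
    X.presheaf.stalk (pr2 f n z)) : Rep f n z 0 τ := by
  induction τ using TensorProduct.induction_on with
  | zero => exact Rep.zero
  | add x y hx hy => exact hx.add hy
  | tmul a b =>
    obtain ⟨Wa, ha, a, rfl⟩ := TopCat.Presheaf.exists_germ_eq X.presheaf a
    obtain ⟨Wb, hb, b, rfl⟩ := TopCat.Presheaf.exists_germ_eq X.presheaf b
    refine ⟨Wa ⊓ Wb, ⟨ha, hb⟩, fun U V e hz hle => ?_⟩
    letI := (f.appLE V U e).hom.toAlgebra
    refine ⟨X.presheaf.map (homOfLE (hle.trans inf_le_left)).op a ⊗ₜ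
      X.presheaf.map (homOfLE (hle.trans inf_le_right)).op b, by
        rw [pow_zero, Ideal.one_eq_top]; trivial, fun μ hμ => ?_⟩
    rw [hμ, TopCat.Presheaf.germ_res_apply, TopCat.Presheaf.germ_res_apply]

theorem rep_one {τ} (hτ : τ ∈ KaehlerDifferential.ideal (S.presheaf.stalk (f (pr2 f n z)))
    (X.presheaf.stalk (pr2 f n z))) : Rep f n z 1 τ := by
  rw [← KaehlerDifferential.span_range_eq_ideal] at hτ
  induction hτ using Submodule.span_induction with
  | zero => exact Rep.zero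
  | add x y _ _ hx hy => exact hx.add hy
  | smul r x _ hx => simpa using (rep_zero r).mul hx
  | mem x hx =>
    obtain ⟨b, rfl⟩ := hx
    obtain ⟨W, hb, b, rfl⟩ := TopCat.Presheaf.exists_germ_eq X.presheaf b
    refine ⟨W, hb, fun U V e hz hle => ?_⟩
    letI := (f.appLE V U e).hom.toAlgebra
    refine ⟨(1 : Γ(X, U)) ⊗ₜ X.presheaf.map (homOfLE hle).op b -
      X.presheaf.map (homOfLE hle).op b ⊗ₜ (1 : Γ(X, U)), by
        rw [pow_one]; exact KaehlerDifferential.one_smul_sub_smul_one_mem_ideal _ _, fun μ hμ => ?_⟩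
    rw [map_sub, hμ, hμ, TopCat.Presheaf.germ_res_apply, map_one]

theorem rep_pow (k : ℕ) {τ} (hτ : τ ∈ KaehlerDifferential.ideal (S.presheaf.stalk (f (pr2 f n z)))
    (X.presheaf.stalk (pr2 f n z)) ^ k) : Rep f n z k τ := by
  induction k generalizing τ with
  | zero => exact rep_zero τ
  | succ k ih =>
    rw [pow_succ] at hτ
    exact Submodule.mul_induction_on hτ (fun a ha b hb => (ih ha).mul (rep_one hb))
      fun a b ha hb => ha.add hb

variable (f n)

theorem phi_surjective (z : nbhd f n) : Function.Surjective (phi f n z) := by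
  intro σ
  obtain ⟨O', hzO, s, rfl⟩ := TopCat.Presheaf.exists_germ_eq (nbhd f n).presheaf σ
  have hx : pr2 f n z ∈ toNbhd f n ⁻¹ᵁ O' := by
    show toNbhd f n (pr2 f n z) ∈ O'
    rwa [toNbhd_pr2_apply]
  obtain ⟨V, U, hV, hU, hz, hle, e⟩ := exists_chart_le f (pr2 f n z) hx
  letI := (f.appLE V U e).hom.toAlgebra
  obtain ⟨ψ, hψs, -, h1, h2⟩ := exists_chartHom f hU hV e n
  obtain ⟨μ, hμ, -⟩ := exists_mu f n e hz
  obtain ⟨τ, hτ⟩ := hψs ((nbhd f n).presheaf.map (homOfLE (pr1_preimage_le f n hle)).op s)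
  exact ⟨μ τ, by rw [phi_chart f n e hz ψ h1 h2 μ hμ τ, hτ, TopCat.Presheaf.germ_res_apply]⟩

theorem phi_eq_zero_iff (z : nbhd f n)
    (τ : X.presheaf.stalk (pr2 f n z) ⊗[S.presheaf.stalk (f (pr2 f n z))]
      X.presheaf.stalk (pr2 f n z)) :
    phi f n z τ = 0 ↔ τ ∈ KaehlerDifferential.ideal (S.presheaf.stalk (f (pr2 f n z)))
      (X.presheaf.stalk (pr2 f n z)) ^ (n + 1) := by
  constructor
  · intro h0
    obtain ⟨W, hW, hrep⟩ := rep_zero τ
    obtain ⟨V, U, hV, hU, hz, hle, e⟩ := exists_chart_le f (pr2 f n z) hW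
    letI iU := (f.appLE V U e).hom.toAlgebra
    obtain ⟨τU, -, hτU⟩ := hrep U V e hz hle
    obtain ⟨ψ, -, -, h1, h2⟩ := exists_chartHom f hU hV e n
    obtain ⟨μ, hμ, -⟩ := exists_mu f n e hz
    rw [← hτU μ hμ, phi_chart f n e hz ψ h1 h2 μ hμ] at h0
    obtain ⟨W', hzW', iA, iB, hres⟩ := TopCat.Presheaf.germ_eq (nbhd f n).presheaf z
      (mem_pr1 f n hz) (mem_pr1 f n hz) (ψ τU) 0 (h0.trans (map_zero _).symm)
    have hx : pr2 f n z ∈ U ⊓ toNbhd f n ⁻¹ᵁ W' := ⟨hz, by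
      show toNbhd f n (pr2 f n z) ∈ W'
      rwa [toNbhd_pr2_apply]⟩
    obtain ⟨U', hU', hz', hle'⟩ := exists_isAffineOpen_mem_and_subset hx
    have hU'U : U' ≤ U := fun y hy => (hle' hy).1
    have hU'W : pr1 f n ⁻¹ᵁ U' ≤ W' := pr1_preimage_le f n fun y hy => (hle' hy).2
    have e' : U' ≤ f ⁻¹ᵁ V := hU'U.trans e
    letI iU' := (f.appLE V U' e').hom.toAlgebra
    obtain ⟨ψ', -, hker', h1', h2'⟩ := exists_chartHom f hU' hV e' n
    obtain ⟨μ', hμ', hμJ'⟩ := exists_mu f n e' hz'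
    obtain ⟨ρ, hρ, -⟩ := exists_tensorMap (RingHom.id Γ(S, V))
      (X.presheaf.map (homOfLE hU'U).op).hom fun a => by
        show f.appLE V U' e' a = X.presheaf.map (homOfLE hU'U).op (f.appLE V U e a)
        rw [← CommRingCat.comp_apply, Scheme.Hom.appLE_map]
    have eψ : ∀ σ, ψ' (ρ σ) = (nbhd f n).presheaf.map
        (homOfLE ((pr1 f n).preimage_mono hU'U)).op (ψ σ) := by
      intro σ
      induction σ using TensorProduct.induction_on with
      | zero => simp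
      | add x y hx hy => simp [map_add, hx, hy]
      | tmul a b =>
        rw [hρ, show ∀ (p q : Γ(X, U')), p ⊗ₜ[Γ(S, V)] q =
            (p ⊗ₜ[Γ(S, V)] (1 : Γ(X, U'))) * ((1 : Γ(X, U')) ⊗ₜ[Γ(S, V)] q) from fun p q => by
              rw [Algebra.TensorProduct.tmul_mul_tmul, mul_one, one_mul],
          show a ⊗ₜ[Γ(S, V)] b = (a ⊗ₜ[Γ(S, V)] (1 : Γ(X, U))) *
              ((1 : Γ(X, U)) ⊗ₜ[Γ(S, V)] b) by
            rw [Algebra.TensorProduct.tmul_mul_tmul, mul_one, one_mul],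
          map_mul, map_mul, map_mul, h1, h2, h1', h2']
        refine congrArg₂ (· * ·)
          (ConcreteCategory.congr_hom ((pr1 f n).naturality (homOfLE hU'U).op) a) ?_
        rw [show (pr2 f n).app U' ((X.presheaf.map (homOfLE hU'U).op).hom b) = _ from
          ConcreteCategory.congr_hom ((pr2 f n).naturality (homOfLE hU'U).op) b]
        simp only [CommRingCat.comp_apply]
        rw [← CommRingCat.comp_apply, ← CommRingCat.comp_apply, ← CommRingCat.comp_apply,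
          ← CommRingCat.comp_apply, ← Functor.map_comp,
          ← Functor.map_comp]
        rfl
    have eμ : ∀ σ, μ' (ρ σ) = μ σ := by
      intro σ
      induction σ using TensorProduct.induction_on with
      | zero => simp
      | add x y hx hy => simp [map_add, hx, hy]
      | tmul a b =>
        rw [hρ, hμ', hμ]
        exact congrArg₂ (· ⊗ₜ[_] ·) (TopCat.Presheaf.germ_res_apply _ _ _ _ _)
          (TopCat.Presheaf.germ_res_apply _ _ _ _ _)
    have hz0 : ψ' (ρ τU) = 0 := by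
      rw [eψ, show homOfLE ((pr1 f n).preimage_mono hU'U) = homOfLE hU'W ≫ iA from
        Subsingleton.elim _ _, op_comp, Functor.map_comp, CommRingCat.comp_apply, hres,
        map_zero, map_zero]
    have hmem := hker' ▸ (RingHom.mem_ker.mpr hz0)
    rw [← hτU μ hμ, ← eμ]
    exact Ideal.pow_right_mono hμJ' _ (Ideal.map_pow μ' _ _ ▸ Ideal.mem_map_of_mem μ' hmem)
  · intro hτ
    obtain ⟨W, hW, hrep⟩ := rep_pow (n + 1) hτ
    obtain ⟨V, U, hV, hU, hz, hle, e⟩ := exists_chart_le f (pr2 f n z) hW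
    letI iU := (f.appLE V U e).hom.toAlgebra
    obtain ⟨τU, hτU, hτU'⟩ := hrep U V e hz hle
    obtain ⟨ψ, -, hker, h1, h2⟩ := exists_chartHom f hU hV e n
    obtain ⟨μ, hμ, -⟩ := exists_mu f n e hz
    rw [← hτU' μ hμ, phi_chart f n e hz ψ h1 h2 μ hμ,
      show ψ τU = 0 from RingHom.mem_ker.mp (hker.symm ▸ hτU), map_zero]

end Groth.Agent.Lib.PrinParts
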