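import Groth.Agent.Lib.PrinParts.Stalk
import Groth.Agent.Lib.Ideal.Comap

/-!
# The symmetry of the infinitesimal neighbourhood of the diagonal
-/

universe u

open CategoryTheory CategoryTheory.Limits AlgebraicGeometry TopologicalSpace Opposite

set_option linter.style.haveILetI false

namespace Groth.Agent.Lib.PrinParts

open PrinPart

variable {X S : Scheme.{u}} (f : X ⟶ S)

theorem diagonal_symm : pullback.diagonal f ≫ (pullbackSymmetry f f).hom = pullback.diagonal f := by
  apply pullback.hom_ext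
  · rw [Category.assoc, pullbackSymmetry_hom_comp_fst, pullback.diagonal_snd, pullback.diagonal_fst]
  · rw [Category.assoc, pullbackSymmetry_hom_comp_snd, pullback.diagonal_snd, pullback.diagonal_fst]

theorem symm_coborderRange :
    (pullbackSymmetry f f).hom ⁻¹ᵁ (pullback.diagonal f).coborderRange =
      (pullback.diagonal f).coborderRange := by
  have hS : (pullbackSymmetry f f).hom ⁻¹' Set.range (pullback.diagonal f) =
      Set.range (pullback.diagonal f) := by
    set s := (pullbackSymmetry f f).hom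
    have hinj : Function.Injective s := s.homeomorph.injective
    ext p
    constructor
    · rintro ⟨x, hx⟩
      exact ⟨x, hinj (((Scheme.Hom.comp_apply _ s x).symm.trans
        (congrArg (fun k : X ⟶ pullback f f => k x) (diagonal_symm f))).trans hx)⟩
    · rintro ⟨x, rfl⟩
      exact ⟨x, ((Scheme.Hom.comp_apply _ s x).symm.trans
        (congrArg (fun k : X ⟶ pullback f f => k x) (diagonal_symm f))).symm⟩
  apply TopologicalSpace.Opens.ext
  show (pullbackSymmetry f f).hom ⁻¹' coborder (Set.range (pullback.diagonal f)) =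
    coborder (Set.range (pullback.diagonal f))
  rw [coborder_eq_union_closure_compl, Set.preimage_union, Set.preimage_compl,
    show (pullbackSymmetry f f).hom ⁻¹' closure (Set.range (pullback.diagonal f)) =
      closure ((pullbackSymmetry f f).hom ⁻¹' Set.range (pullback.diagonal f)) from
      (pullbackSymmetry f f).hom.homeomorph.preimage_closure _, hS]

/-- The symmetry. -/
theorem exists_symm (n : ℕ) :
    ∃ σ : nbhd f n ⟶ nbhd f n,
      σ ≫ nbhdι f n = nbhdι f n ≫ (pullbackSymmetry f f).hom ∧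
      σ ≫ σ = 𝟙 (nbhd f n) ∧
      σ ≫ pr1 f n = pr2 f n ∧ σ ≫ pr2 f n = pr1 f n ∧
      toNbhd f n ≫ σ = toNbhd f n := by
  set C := (pullback.diagonal f).coborderRange
  set s := (pullbackSymmetry f f).hom
  let sC : C.toScheme ⟶ C.toScheme := IsOpenImmersion.lift C.ι (C.ι ≫ s) (by
    rintro _ ⟨p, rfl⟩
    rw [Scheme.Opens.range_ι]
    show s (C.ι p) ∈ C
    have h : C.ι p ∈ s ⁻¹ᵁ C := (symm_coborderRange f).symm ▸ p.2
    exact h)
  have hsC : sC ≫ C.ι = C.ι ≫ s := IsOpenImmersion.lift_fac _ _ _
  have hd : diagCl f ≫ sC = diagCl f := by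
    rw [← cancel_mono C.ι, Category.assoc, hsC, Scheme.Hom.liftCoborder_ι_assoc, diagonal_symm,
      Scheme.Hom.liftCoborder_ι]
  have hI : ((diagCl f).ker ^ (n + 1)).comap sC ≤ (diagCl f).ker ^ (n + 1) := by
    rw [Ideal.Comap.comap_pow]
    intro U
    rw [Scheme.IdealSheafData.ideal_pow, Scheme.IdealSheafData.ideal_pow, Pi.pow_apply, Pi.pow_apply]
    refine Ideal.pow_right_mono ?_ _
    refine (Scheme.IdealSheafData.le_map_iff_comap_le.mp ?_) U
    rw [Scheme.IdealSheafData.map_ker, hd]
  have hker : (infNbhdι (diagCl f) n).ker ≤ (infNbhdι (diagCl f) n ≫ sC).ker := by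
    rw [infNbhdι, Scheme.Hom.ker_comp, Scheme.IdealSheafData.ker_subschemeι]
    exact Scheme.IdealSheafData.le_map_iff_comap_le.mpr hI
  haveI : IsClosedImmersion (infNbhdι (diagCl f) n) := by unfold infNbhdι; infer_instance
  let σ : nbhd f n ⟶ nbhd f n :=
    IsClosedImmersion.lift (infNbhdι (diagCl f) n) (infNbhdι (diagCl f) n ≫ sC) hker
  have h0 : σ ≫ infNbhdι (diagCl f) n = infNbhdι (diagCl f) n ≫ sC :=
    IsClosedImmersion.lift_fac _ _ hker
  have h1 : σ ≫ nbhdι f n = nbhdι f n ≫ s := by
    rw [nbhdι, ← Category.assoc, h0, Category.assoc, hsC, Category.assoc]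
  haveI : Mono (nbhdι f n) := by unfold nbhdι; infer_instance
  refine ⟨σ, h1, ?_, ?_, ?_, ?_⟩
  · rw [← cancel_mono (nbhdι f n), Category.assoc, h1, reassoc_of% h1, Category.id_comp]
    refine Eq.trans (congrArg (nbhdι f n ≫ ·) ?_) (Category.comp_id _)
    apply pullback.hom_ext <;>
      simp [s, pullbackSymmetry_hom_comp_fst, pullbackSymmetry_hom_comp_snd]
  · rw [pr1, reassoc_of% h1, pullbackSymmetry_hom_comp_fst, pr2]
  · rw [pr2, reassoc_of% h1, pullbackSymmetry_hom_comp_snd, pr1]
  · rw [← cancel_mono (nbhdι f n), Category.assoc, h1, toNbhd_ι, ← Category.assoc, toNbhd_ι,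
      diagonal_symm]

end Groth.Agent.Lib.PrinParts
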